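import Mathlib
import Cfsg.Agent.TcChain36.Out.U0M22.Rep

set_option autoImplicit false
set_option maxRecDepth 1000000
set_option linter.all false

namespace Cfsg.Agent.TcChain36.Out.U0M22

open Cfsg.Agent.Lib.OutTree36

set_option Elab.async false

open Cfsg.Agent.TcData.U0M22.I693 Cfsg.Agent.TcData.U0M22 Cfsg.Agent.TcChain36.M22U.U0

/-- The Sylow data. -/
def DD : SD :=
  { m := 9, N := 64, s := 6, fb := 10,
    eWs := [[8], [9], [10], [11], [12], [13], [14], [15], [16]],
    tWs := [[17], [19], [21], [23], [25], [27]],
    ixs := nat_lit 0x80100200400801,
    BrT := nat_lit 0x2002074c086e1005f5ab004084015a201b80804f6ac0156840021d36e1612d5ab005d358480569b8101866ac012d40413d866e09f569ab0058627d7d2d5b8011d36ac015f4766184f6e0ec201ab0044f3b0b55f5b81d8086ac0127d861d8046e0b5585ab004042d4ec27db8618406ac013b04f010766e17d401ab004765f49f3b1b813c206ac0140008100206e0803b1ab0042020161401b8020766ac01585d3080406e15a27dab0044056900585b874c046ac0156900021d36ac205f5b8005d308080569ab4004f6e0012016174c086ac402d5b8004081015a201ab585866e0015f49f6184f6ac04569b80044f010b55f5ab27dd36e0012d4ec13d866ac76201b8005861d97d2d5ab3b0086e0013b0b5010766ad86585b80047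66189f3b1ab2d4406e00127d7d1d8046ac4f401b80040413cec27dab5f4206e00158480080406ac083b1b80044002100585ab200766e0014015a100206add327db80042074d61401ab568046e0010216156880008405f41000480101d3020025844f0400174d002015a008202d4100055a0800874c024018604001618ec5f4b50087656810004b51d84f618023b1d30400113c9f2d57d00804200100057d0118613c0227c08040010117d3b09f0084f584100049f13c76010025f440040011d8b527cec0098640010004ec618041d8022d420040010815a58500009d33b0100050074c4008002568760400110080401610080827c10005610202010002200040400174c402015a041615f4020055a5840874c101004f008010202056880041002d40200480401d302010081860080113c762d57d040ec568020057d3b18613c101d9d300801618045f4b50409f20002004b527c4f6181001008008011d84f27cec0417d58402004ec5f4041d81013c4000801011863b09f040b5400020049f2d476010106182000801101d3401610415a3b00200561568201001074c760080108008585000408027c020050020040080100200400801,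
    piT := nat_lit 0x742c0dc3b0f43e0702d0d83a0f03f07c2e0d4390fc3c0782f0d0380f83d0602a0cc3f0e43a0642b0c83e0e03b068280c43d0ec3806c290c03c0e839058250fc330d43605c240f8320d037050270f4310dc34054260f0300d83504c230ec370c432048220e8360c033044210e4350cc30040200e0340c8310343c09c2b0b42e0303d0982a0b02f03c3e094290bc2c0383f090280b82d0203a08c2f0a42a0243b0882e0a02b028380842d0ac2802c390802c0a829018350bc230942601c340b82209027010370b42109c24014360b0200982500c330ac2708422008320a82608023004310a42508c20000300a024088210f40c05c1b0741e0f00d0581a0701f0fc0e0541907c1c0f80f050180781d0e00a04c1f0641a0e40b0481e0601b0e8080441d06c180ec090401c068190d80507c13054160dc0407812050170d0070741105c140d40607010058150cc0306c17044120c80206816040130c4010641504c100c00006014048110b41c01c0b0340e0b01d0180a0300f0bc1e0140903c0c0b81f010080380d0a01a00c0f0240a0a41b0080e0200b0a8180040d02c080ac190000c028090981503c030140609c140380201007090170340101c0409416030000180508c1302c0700402088120280600003084110240500c00080100200400801,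
    cT := nat_lit 0x1a80000000000001a80000000000001a90000000000001a90000000000000120000000000000120000000000000130000000000000130000000000001bb0000000000001bb0000000000001ba0000000000001ba0000000000000010000000000000010000000000000000000000000000000000000000001a80000000000001a80000000000001a90000000000001a90000000000000120000000000000120000000000000130000000000000130000000000001bb0000000000001bb0000000000001ba0000000000001ba0000000000000010000000000000010000000000000000000000000000000000000000001a80000000000001a80000000000001a90000000000001a90000000000000120000000000000120000000000000130000000000000130000000000001bb0000000000001bb0000000000001ba0000000000001ba0000000000000010000000000000010000000000000000000000000000000000000000001a80000000000001a80000000000001a90000000000001a90000000000000120000000000000120000000000000130000000000000130000000000001bb0000000000001bb0000000000001ba0000000000001ba0000000000000010000000000000010000000000000000000000000000000000000000,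
    sqiT := nat_lit 0x40100401008020080200c0300c030000000000008020080200c0300c030040100401000000000000c0300c030040100401008020080200000000000000000000000000000000000000000000000000,
    sqcT := nat_lit 0x6a5a96a1a804c13048126edbb6e9ba004010000000000000000000000000000000000000000000006a1a86a5a90481204c136edbb6e9ba00401000000000000000000000000000000000000000000000 }

theorem hS : DD.chkS ap iv bsL = true := by decide +kernel

theorem hI0 : DD.chkI ap iv bsL 0 = true := by decide +kernel

theorem hI1 : DD.chkI ap iv bsL 1 = true := by decide +kernel

theorem hI2 : DD.chkI ap iv bsL 2 = true := by decide +kernel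

theorem hI3 : DD.chkI ap iv bsL 3 = true := by decide +kernel

theorem hI4 : DD.chkI ap iv bsL 4 = true := by decide +kernel

theorem hI5 : DD.chkI ap iv bsL 5 = true := by decide +kernel

theorem hI6 : DD.chkI ap iv bsL 6 = true := by decide +kernel

theorem hI7 : DD.chkI ap iv bsL 7 = true := by decide +kernel

theorem hI8 : DD.chkI ap iv bsL 8 = true := by decide +kernel

theorem hI9 : DD.chkI ap iv bsL 9 = true := by decide +kernel

theorem hI10 : DD.chkI ap iv bsL 10 = true := by decide +kernel

theorem hI11 : DD.chkI ap iv bsL 11 = true := by decide +kernel

theorem hI12 : DD.chkI ap iv bsL 12 = true := by decide +kernel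

theorem hI13 : DD.chkI ap iv bsL 13 = true := by decide +kernel

theorem hI14 : DD.chkI ap iv bsL 14 = true := by decide +kernel

theorem hI15 : DD.chkI ap iv bsL 15 = true := by decide +kernel

theorem hI16 : DD.chkI ap iv bsL 16 = true := by decide +kernel

theorem hI17 : DD.chkI ap iv bsL 17 = true := by decide +kernel

theorem hI18 : DD.chkI ap iv bsL 18 = true := by decide +kernel

theorem hI19 : DD.chkI ap iv bsL 19 = true := by decide +kernel

theorem hI20 : DD.chkI ap iv bsL 20 = true := by decide +kernel

theorem hI21 : DD.chkI ap iv bsL 21 = true := by decide +kernel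

theorem hI22 : DD.chkI ap iv bsL 22 = true := by decide +kernel

theorem hI23 : DD.chkI ap iv bsL 23 = true := by decide +kernel

theorem hI24 : DD.chkI ap iv bsL 24 = true := by decide +kernel

theorem hI25 : DD.chkI ap iv bsL 25 = true := by decide +kernel

theorem hI26 : DD.chkI ap iv bsL 26 = true := by decide +kernel

theorem hI27 : DD.chkI ap iv bsL 27 = true := by decide +kernel

theorem hI28 : DD.chkI ap iv bsL 28 = true := by decide +kernel

theorem hI29 : DD.chkI ap iv bsL 29 = true := by decide +kernel

theorem hI30 : DD.chkI ap iv bsL 30 = true := by decide +kernel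

theorem hI31 : DD.chkI ap iv bsL 31 = true := by decide +kernel

theorem hI32 : DD.chkI ap iv bsL 32 = true := by decide +kernel

theorem hI33 : DD.chkI ap iv bsL 33 = true := by decide +kernel

theorem hI34 : DD.chkI ap iv bsL 34 = true := by decide +kernel

theorem hI35 : DD.chkI ap iv bsL 35 = true := by decide +kernel

theorem hI36 : DD.chkI ap iv bsL 36 = true := by decide +kernel

theorem hI37 : DD.chkI ap iv bsL 37 = true := by decide +kernel

theorem hI38 : DD.chkI ap iv bsL 38 = true := by decide +kernel

theorem hI39 : DD.chkI ap iv bsL 39 = true := by decide +kernel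

theorem hI40 : DD.chkI ap iv bsL 40 = true := by decide +kernel

theorem hI41 : DD.chkI ap iv bsL 41 = true := by decide +kernel

theorem hI42 : DD.chkI ap iv bsL 42 = true := by decide +kernel

theorem hI43 : DD.chkI ap iv bsL 43 = true := by decide +kernel

theorem hI44 : DD.chkI ap iv bsL 44 = true := by decide +kernel

theorem hI45 : DD.chkI ap iv bsL 45 = true := by decide +kernel

theorem hI46 : DD.chkI ap iv bsL 46 = true := by decide +kernel

theorem hI47 : DD.chkI ap iv bsL 47 = true := by decide +kernel

theorem hI48 : DD.chkI ap iv bsL 48 = true := by decide +kernel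

theorem hI49 : DD.chkI ap iv bsL 49 = true := by decide +kernel

theorem hI50 : DD.chkI ap iv bsL 50 = true := by decide +kernel

theorem hI51 : DD.chkI ap iv bsL 51 = true := by decide +kernel

theorem hI52 : DD.chkI ap iv bsL 52 = true := by decide +kernel

theorem hI53 : DD.chkI ap iv bsL 53 = true := by decide +kernel

theorem hI54 : DD.chkI ap iv bsL 54 = true := by decide +kernel

theorem hI55 : DD.chkI ap iv bsL 55 = true := by decide +kernel

theorem hI56 : DD.chkI ap iv bsL 56 = true := by decide +kernel

theorem hI57 : DD.chkI ap iv bsL 57 = true := by decide +kernel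

theorem hI58 : DD.chkI ap iv bsL 58 = true := by decide +kernel

theorem hI59 : DD.chkI ap iv bsL 59 = true := by decide +kernel

theorem hI60 : DD.chkI ap iv bsL 60 = true := by decide +kernel

theorem hI61 : DD.chkI ap iv bsL 61 = true := by decide +kernel

theorem hI62 : DD.chkI ap iv bsL 62 = true := by decide +kernel

theorem hI63 : DD.chkI ap iv bsL 63 = true := by decide +kernel

theorem hI : ∀ i, i < DD.N → DD.chkI ap iv bsL i = true := by
  intro i hi
  have hi2 : i < 64 := hi
  interval_cases i
  · exact hI0
  · exact hI1
  · exact hI2
  · exact hI3
  · exact hI4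
  · exact hI5
  · exact hI6
  · exact hI7
  · exact hI8
  · exact hI9
  · exact hI10
  · exact hI11
  · exact hI12
  · exact hI13
  · exact hI14
  · exact hI15
  · exact hI16
  · exact hI17
  · exact hI18
  · exact hI19
  · exact hI20
  · exact hI21
  · exact hI22
  · exact hI23
  · exact hI24
  · exact hI25
  · exact hI26
  · exact hI27
  · exact hI28
  · exact hI29
  · exact hI30
  · exact hI31
  · exact hI32
  · exact hI33
  · exact hI34
  · exact hI35
  · exact hI36
  · exact hI37
  · exact hI38
  · exact hI39
  · exact hI40
  · exact hI41
  · exact hI42
  · exact hI43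
  · exact hI44
  · exact hI45
  · exact hI46
  · exact hI47
  · exact hI48
  · exact hI49
  · exact hI50
  · exact hI51
  · exact hI52
  · exact hI53
  · exact hI54
  · exact hI55
  · exact hI56
  · exact hI57
  · exact hI58
  · exact hI59
  · exact hI60
  · exact hI61
  · exact hI62
  · exact hI63

end Cfsg.Agent.TcChain36.Out.U0M22
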