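import Mathlib
import Cfsg.Agent.TcChain36.Out.U0M22.Syl

set_option autoImplicit false
set_option maxRecDepth 1000000
set_option linter.all false

namespace Cfsg.Agent.TcChain36.Out.U0M22

open Cfsg.Agent.Lib.OutTree36

set_option Elab.async false

open Cfsg.Agent.TcData.U0M22.I693 Cfsg.Agent.TcData.U0M22 Cfsg.Agent.TcChain36.M22U.U0

/-- The candidates of a coset. -/
def cd0 : CT :=
  (.nd (.nd (.nd (.nd (.nd (.nd (.nd (.nd (.lf (.inD [3, 2, 1, 0, 7, 3, 2, 1, 6, 5, 7, 6])) (.nd (.lf (.inD [3, 2, 1, 0, 4, 3, 2, 1])) (.lf (.wit [1, 3, 5, 0, 1] [439, 422])))) (.nd (.nd (.lf (.inD [3, 2, 1, 5, 7, 3, 2, 1])) (.lf (.wit [1, 4, 2, 6, 5, 1, 4] [422, 422]))) (.nd (.lf (.wit [1, 4, 2, 6, 5, 1, 4] [422, 422])) (.lf (.wit [1, 3, 5, 0, 1] [439, 439]))))) (.nd (.nd (.nd (.lf (.inD [3, 2, 1, 0, 5, 1, 7, 3])) (.lf (.wit [1,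 4, 2, 6, 5, 1, 4] [422, 422]))) (.nd (.lf (.wit [1, 4, 2, 6, 5, 1, 4] [422, 422])) (.lf (.wit [1, 4, 2, 6, 5, 1, 4] [422, 422])))) (.nd (.nd (.lf (.wit [1, 4, 2, 6, 5, 1, 4] [422, 422])) (.lf (.wit [1, 3, 5, 0, 1] [422, 422]))) (.nd (.lf (.wit [1, 4, 2, 6, 5, 1, 4] [422, 422])) (.lf (.wit [1, 3, 5, 0, 1] [422, 422])))))) (.nd (.nd (.nd (.nd (.lf (.inD [3, 2, 1, 0, 7, 3, 2, 1])) (.lf (.wit [1, 4, 2, 6, 5, 1, 4] [422, 422]))) (.nd (.lf (.wit [1, 4, 2, 6, 5, 1, 4] [422, 422])) (.lf (.wit [1, 3, 5, 0, 1] [439, 439])))) (.nd (.nd (.lf (.wit [1, 4, 2, 6, 5, 1, 4] [422, 422])) (.lf (.wit [1, 4, 2, 6, 5, 1, 4] [422, 422]))) (.nd (.lf (.wit [1, 4, 2, 6, 5, 1, 4] [422, 422])) (.lf (.wit [1, 4, 2, 6, 5, 1, 4] [422, 422]))))) (.nd (.nd (.nd (.lf (.wit [1, 3, 6] [422, 422])) (.lf (.wit [1, 4, 2, 6, 5, 1, 4] [422, 422])))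 (.nd (.lf (.wit [3, 4, 6, 2, 3] [422, 422])) (.lf (.wit [1, 4, 2, 6, 5, 1, 4] [439, 422])))) (.nd (.nd (.lf (.wit [1, 4, 2, 6, 5, 1, 4] [422, 422])) (.lf (.wit [1, 4, 2, 6, 5, 1, 4] [422, 422]))) (.nd (.lf (.wit [3, 4, 6, 2, 3] [422, 422])) (.lf (.wit [1, 4, 2, 6, 5, 1, 4] [422, 422]))))))) (.nd (.nd (.nd (.nd (.nd (.lf (.inD [3, 2, 4, 3])) (.lf (.wit [1, 3, 5, 0, 1] [422, 422]))) (.nd (.lf (.wit [1, 3, 2, 3] [422, 422])) (.lf (.wit [1, 3, 5, 0, 1] [422, 422])))) (.nd (.nd (.lf (.wit [1, 5, 6, 3] [422, 422])) (.lf (.wit [1, 3, 5, 0, 1] [422, 422]))) (.nd (.lf (.wit [1, 4, 2, 6, 5, 1, 4] [422, 422])) (.lf (.wit [1, 3, 5, 0, 1] [422, 422]))))) (.nd (.nd (.nd (.lf (.wit [1, 5, 6, 3] [422, 422])) (.lf (.wit [1, 4, 2, 6, 5, 1, 4] [422, 422]))) (.nd (.lf (.wit [1, 4, 2, 6, 5, 1, 4] [422, 422])) (.lf (.wit [1, 4,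 2, 6, 5, 1, 4] [422, 422])))) (.nd (.nd (.lf (.wit [1, 4, 2, 6, 5, 1, 4] [422, 422])) (.lf (.wit [1, 4, 2, 6, 5, 1, 4] [422, 422]))) (.nd (.lf (.wit [3, 4, 6, 2, 3] [422, 422])) (.lf (.wit [1, 4, 2, 6, 5, 1, 4] [422, 422])))))) (.nd (.nd (.nd (.nd (.lf (.wit [1, 5, 6, 3] [422, 422])) (.lf (.wit [1, 4, 2, 6, 5, 1, 4] [422, 422]))) (.nd (.lf (.wit [1, 4, 2, 6, 5, 1, 4] [422, 422])) (.lf (.wit [1, 4, 2, 6, 5, 1, 4] [422, 422])))) (.nd (.nd (.lf (.wit [1, 4, 2, 6, 5, 1, 4] [422, 422])) (.lf (.wit [1, 3, 5, 0, 1] [422, 422]))) (.nd (.lf (.wit [1, 3, 5, 0, 1] [422, 422])) (.lf (.wit [1, 4, 2, 6, 5, 1, 4] [422, 422]))))) (.nd (.nd (.nd (.lf (.wit [1, 5, 6, 3] [422, 422])) (.lf (.wit [1, 4, 2, 6, 5, 1, 4] [422, 422]))) (.nd (.lf (.wit [3, 4, 6, 2, 3] [422, 422])) (.lf (.inD [3, 2, 1, 0, 5, 1, 7, 3, 6, 5, 7, 6]))))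 (.nd (.nd (.lf (.wit [3, 7, 6] [422, 422])) (.lf (.wit [1, 4, 2, 6, 5, 1, 4] [422, 422]))) (.nd (.lf (.wit [1, 4, 2, 6, 5, 1, 4] [422, 422])) (.lf (.wit [1, 4, 2, 6, 5, 1, 4] [422, 422])))))))) (.nd (.nd (.nd (.nd (.nd (.nd (.lf (.inD [3, 4, 7, 3])) (.lf (.wit [1, 3, 5, 0, 1] [422, 422]))) (.nd (.lf (.wit [1, 3, 2, 3] [422, 422])) (.lf (.wit [1, 4, 2, 6, 5, 1, 4] [422, 422])))) (.nd (.nd (.lf (.wit [1, 5, 6, 3] [422, 422])) (.lf (.wit [1, 3, 5, 0, 1] [422, 422]))) (.nd (.lf (.wit [1, 4, 2, 6, 5, 1, 4] [439, 422])) (.lf (.wit [1, 3, 5, 0, 1] [422, 422]))))) (.nd (.nd (.nd (.lf (.wit [1, 5, 6, 3] [422, 422])) (.lf (.wit [1, 4, 2, 6, 5, 1, 4] [422, 422]))) (.nd (.lf (.wit [1, 4, 2, 6, 5, 1, 4] [422, 422])) (.lf (.wit [1, 4, 2, 6, 5, 1, 4] [422, 422])))) (.nd (.nd (.lf (.wit [1, 4, 2, 6, 5, 1, 4] [422, 422])) (.lf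 (.wit [1, 4, 2, 6, 5, 1, 4] [422, 422]))) (.nd (.lf (.wit [1, 4, 2, 6, 5, 1, 4] [422, 422])) (.lf (.wit [1, 4, 2, 6, 5, 1, 4] [422, 422])))))) (.nd (.nd (.nd (.nd (.lf (.wit [1, 5, 6, 3] [422, 422])) (.lf (.wit [1, 4, 2, 6, 5, 1, 4] [422, 422]))) (.nd (.lf (.wit [1, 4, 2, 6, 5, 1, 4] [422, 422])) (.lf (.wit [1, 3, 5, 0, 1] [422, 422])))) (.nd (.nd (.lf (.wit [1, 4, 2, 6, 5, 1, 4] [422, 422])) (.lf (.wit [1, 3, 5, 0, 1] [422, 422]))) (.nd (.lf (.wit [1, 4, 2, 6, 5, 1, 4] [422, 422])) (.lf (.wit [1, 3, 5, 0, 1] [422, 422]))))) (.nd (.nd (.nd (.lf (.wit [1, 3, 6] [422, 422])) (.lf (.wit [1, 4, 2, 6, 5, 1, 4] [422, 422]))) (.nd (.lf (.wit [3, 4, 6, 2, 3] [422, 422])) (.lf (.wit [1, 4, 2, 6, 5, 1, 4] [422, 422])))) (.nd (.nd (.lf (.wit [3, 7, 6] [422, 422])) (.lf (.wit [1, 4, 2, 6, 5, 1, 4] [439, 422]))) (.nd (.lf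 (.wit [3, 4, 6, 2, 3] [422, 422])) (.lf (.wit [1, 4, 2, 6, 5, 1, 4] [422, 422]))))))) (.nd (.nd (.nd (.nd (.nd (.lf (.wit [6, 3] [422, 422])) (.lf (.wit [1, 4, 2, 6, 5, 1, 4] [422, 422]))) (.nd (.lf (.wit [1, 3, 5, 0, 1] [422, 422])) (.lf (.wit [1, 3, 5, 0, 1] [422, 439])))) (.nd (.nd (.lf (.wit [1, 5, 6, 3] [422, 422])) (.lf (.wit [1, 4, 2, 6, 5, 1, 4] [439, 422]))) (.nd (.lf (.wit [1, 4, 2, 6, 5, 1, 4] [439, 422])) (.lf (.wit [1, 3, 5, 0, 1] [422, 422]))))) (.nd (.nd (.nd (.lf (.wit [1, 5, 6, 3] [422, 422])) (.lf (.wit [1, 4, 2, 6, 5, 1, 4] [422, 422]))) (.nd (.lf (.wit [3, 4, 6, 2, 3] [422, 422])) (.lf (.wit [1, 3, 5, 0, 1] [422, 422])))) (.nd (.nd (.lf (.wit [1, 4, 2, 6, 5, 1, 4] [422, 422])) (.lf (.wit [1, 4, 2, 6, 5, 1, 4] [422, 422]))) (.nd (.lf (.inD [3, 2, 1, 0, 5, 1, 2, 3])) (.lf (.wit [1, 4, 2, 6,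 5, 1, 4] [422, 422])))))) (.nd (.nd (.nd (.nd (.lf (.wit [1, 5, 6, 3] [422, 422])) (.lf (.wit [1, 4, 2, 6, 5, 1, 4] [422, 422]))) (.nd (.lf (.wit [3, 4, 6, 2, 3] [422, 422])) (.lf (.wit [1, 4, 2, 6, 5, 1, 4] [422, 422])))) (.nd (.nd (.lf (.wit [1, 4, 2, 6, 5, 1, 4] [422, 422])) (.lf (.wit [1, 3, 5, 0, 1] [422, 422]))) (.nd (.lf (.wit [1, 3, 5, 0, 1] [422, 422])) (.lf (.wit [1, 3, 5, 0, 1] [422, 439]))))) (.nd (.nd (.nd (.lf (.wit [1, 5, 6, 3] [422, 422])) (.lf (.wit [1, 4, 2, 6, 5, 1, 4] [422, 422]))) (.nd (.lf (.wit [1, 4, 2, 6, 5, 1, 4] [422, 422])) (.lf (.wit [1, 3, 5, 0, 1] [422, 422])))) (.nd (.nd (.lf (.wit [3, 7, 6] [422, 439])) (.lf (.wit [1, 3, 5, 0, 1] [422, 422]))) (.nd (.lf (.wit [3, 4, 6, 2, 3] [422, 422])) (.lf (.wit [1, 4, 2, 6, 5, 1, 4] [422, 422]))))))))) (.nd (.nd (.nd (.nd (.nd (.nd (.nd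 (.lf (.inD [3, 2, 7, 3])) (.lf (.wit [1, 3, 5, 0, 1] [422, 422]))) (.nd (.lf (.wit [1, 3, 2, 3] [422, 422])) (.lf (.wit [1, 3, 5, 0, 1] [422, 422])))) (.nd (.nd (.lf (.wit [1, 3, 6] [422, 422])) (.lf (.wit [1, 4, 2, 6, 5, 1, 4] [422, 422]))) (.nd (.lf (.wit [1, 4, 2, 6, 5, 1, 4] [422, 422])) (.lf (.wit [1, 3, 5, 0, 1] [422, 422]))))) (.nd (.nd (.nd (.lf (.wit [1, 5, 6, 3] [422, 422])) (.lf (.wit [1, 4, 2, 6, 5, 1, 4] [422, 422]))) (.nd (.lf (.wit [1, 4, 2, 6, 5, 1, 4] [422, 422])) (.lf (.wit [1, 4, 2, 6, 5, 1, 4] [422, 422])))) (.nd (.nd (.lf (.wit [1, 4, 2, 6, 5, 1, 4] [422, 422])) (.lf (.wit [1, 3, 5, 0, 1] [439, 422]))) (.nd (.lf (.wit [1, 4, 2, 6, 5, 1, 4] [422, 422])) (.lf (.wit [1, 4, 2, 6, 5, 1, 4] [422, 422])))))) (.nd (.nd (.nd (.nd (.lf (.wit [1, 3, 6] [422, 422])) (.lf (.wit [1, 4, 2, 6, 5, 1, 4]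 [422, 422]))) (.nd (.lf (.wit [1, 4, 2, 6, 5, 1, 4] [422, 422])) (.lf (.wit [1, 3, 5, 0, 1] [422, 422])))) (.nd (.nd (.lf (.wit [1, 4, 2, 6, 5, 1, 4] [422, 422])) (.lf (.wit [1, 3, 5, 0, 1] [422, 422]))) (.nd (.lf (.wit [1, 4, 2, 6, 5, 1, 4] [422, 422])) (.lf (.wit [1, 3, 5, 0, 1] [422, 422]))))) (.nd (.nd (.nd (.lf (.wit [1, 3, 6] [422, 422])) (.lf (.wit [1, 3, 5, 0, 1] [439, 422]))) (.nd (.lf (.wit [3, 4, 6, 2, 3] [422, 422])) (.lf (.wit [1, 4, 2, 6, 5, 1, 4] [422, 422])))) (.nd (.nd (.lf (.wit [3, 7, 6] [422, 422])) (.lf (.wit [1, 4, 2, 6, 5, 1, 4] [422, 422]))) (.nd (.lf (.wit [3, 4, 6, 2, 3] [422, 422])) (.lf (.wit [1, 4, 2, 6, 5, 1, 4] [422, 422]))))))) (.nd (.nd (.nd (.nd (.nd (.lf (.wit [6, 3] [422, 422])) (.lf (.wit [1, 4, 2, 6, 5, 1, 4] [422, 422]))) (.nd (.lf (.wit [1, 3, 2, 3] [422, 422])) (.lf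 (.wit [1, 3, 5, 0, 1] [439, 422])))) (.nd (.nd (.lf (.wit [1, 5, 6, 3] [422, 422])) (.lf (.wit [1, 4, 2, 6, 5, 1, 4] [422, 422]))) (.nd (.lf (.wit [1, 4, 2, 6, 5, 1, 4] [422, 422])) (.lf (.wit [1, 3, 5, 0, 1] [439, 439]))))) (.nd (.nd (.nd (.lf (.wit [1, 5, 6, 3] [422, 422])) (.lf (.wit [1, 4, 2, 6, 5, 1, 4] [422, 422]))) (.nd (.lf (.wit [3, 4, 6, 2, 3] [422, 422])) (.lf (.wit [1, 3, 5, 0, 1] [422, 422])))) (.nd (.nd (.lf (.wit [1, 4, 2, 6, 5, 1, 4] [422, 422])) (.lf (.wit [1, 4, 2, 6, 5, 1, 4] [422, 422]))) (.nd (.lf (.wit [3, 4, 6, 2, 3] [439, 422])) (.lf (.wit [1, 4, 2, 6, 5, 1, 4] [422, 422])))))) (.nd (.nd (.nd (.nd (.lf (.wit [1, 5, 6, 3] [422, 422])) (.lf (.wit [1, 4, 2, 6, 5, 1, 4] [422, 422]))) (.nd (.lf (.wit [3, 4, 6, 2, 3] [422, 422])) (.lf (.wit [1, 4, 2, 6, 5, 1, 4] [422, 422])))) (.nd (.nd (.lf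 (.wit [1, 4, 2, 6, 5, 1, 4] [422, 422])) (.lf (.inD [3, 2, 1, 0, 5, 1, 2, 3, 6, 5, 1, 0, 7, 6, 5, 1]))) (.nd (.lf (.wit [1, 4, 2, 6, 5, 1, 4] [422, 422])) (.lf (.wit [1, 3, 5, 0, 1] [439, 422]))))) (.nd (.nd (.nd (.lf (.wit [1, 5, 6, 3] [422, 422])) (.lf (.wit [1, 4, 2, 6, 5, 1, 4] [422, 422]))) (.nd (.lf (.wit [3, 4, 6, 2, 3] [422, 422])) (.lf (.wit [1, 3, 5, 0, 1] [422, 422])))) (.nd (.nd (.lf (.wit [3, 7, 6] [422, 422])) (.lf (.wit [1, 4, 2, 6, 5, 1, 4] [422, 422]))) (.nd (.lf (.wit [3, 4, 6, 2, 3] [422, 422])) (.lf (.wit [1, 4, 2, 6, 5, 1, 4] [422, 422])))))))) (.nd (.nd (.nd (.nd (.nd (.nd (.lf (.wit [3, 1] [422, 422])) (.lf (.wit [1, 3, 5, 0, 1] [422, 422]))) (.nd (.lf (.wit [1, 4, 2, 6, 5, 1, 4] [422, 422])) (.lf (.inD [3, 2, 1, 0, 5, 1, 2, 3, 6, 5, 1, 0, 2, 1, 7, 6])))) (.nd (.nd (.lf (.wit [1, 5, 6,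 3] [422, 422])) (.lf (.wit [1, 3, 5, 0, 1] [422, 439]))) (.nd (.lf (.wit [1, 4, 2, 6, 5, 1, 4] [422, 422])) (.lf (.wit [1, 4, 2, 6, 5, 1, 4] [422, 422]))))) (.nd (.nd (.nd (.lf (.wit [1, 5, 6, 3] [422, 422])) (.lf (.wit [1, 4, 2, 6, 5, 1, 4] [422, 422]))) (.nd (.lf (.wit [1, 4, 2, 6, 5, 1, 4] [422, 422])) (.lf (.wit [1, 4, 2, 6, 5, 1, 4] [422, 422])))) (.nd (.nd (.lf (.wit [1, 4, 2, 6, 5, 1, 4] [422, 422])) (.lf (.wit [1, 4, 2, 6, 5, 1, 4] [422, 422]))) (.nd (.lf (.wit [1, 4, 2, 6, 5, 1, 4] [422, 422])) (.lf (.wit [1, 4, 2, 6, 5, 1, 4] [422, 422])))))) (.nd (.nd (.nd (.nd (.lf (.wit [1, 5, 6, 3] [422, 422])) (.lf (.wit [1, 4, 2, 6, 5, 1, 4] [422, 422]))) (.nd (.lf (.wit [1, 4, 2, 6, 5, 1, 4] [422, 422])) (.lf (.wit [1, 4, 2, 6, 5, 1, 4] [422, 422])))) (.nd (.nd (.lf (.wit [1, 4, 2, 6, 5, 1, 4] [422, 422]))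 (.lf (.wit [1, 3, 5, 0, 1] [422, 422]))) (.nd (.lf (.wit [1, 4, 2, 6, 5, 1, 4] [422, 422])) (.lf (.wit [1, 4, 2, 6, 5, 1, 4] [422, 422]))))) (.nd (.nd (.nd (.lf (.wit [1, 5, 6, 3] [422, 422])) (.lf (.wit [1, 4, 2, 6, 5, 1, 4] [422, 422]))) (.nd (.lf (.wit [3, 4, 6, 2, 3] [422, 422])) (.lf (.wit [1, 4, 2, 6, 5, 1, 4] [422, 422])))) (.nd (.nd (.lf (.inD [3, 2, 1, 0, 4, 5, 1, 2, 7, 3])) (.lf (.wit [1, 4, 2, 6, 5, 1, 4] [422, 422]))) (.nd (.lf (.wit [1, 4, 2, 6, 5, 1, 4] [422, 422])) (.lf (.wit [1, 4, 2, 6, 5, 1, 4] [422, 422]))))))) (.nd (.nd (.nd (.nd (.nd (.lf (.wit [6, 3] [422, 422])) (.lf (.wit [1, 4, 2, 6, 5, 1, 4] [422, 422]))) (.nd (.lf (.wit [1, 3, 5, 0, 1] [422, 422])) (.lf (.wit [1, 3, 5, 0, 1] [422, 422])))) (.nd (.nd (.lf (.wit [1, 3, 6] [422, 422])) (.lf (.wit [1, 4, 2, 6, 5, 1, 4] [422, 422]))) (.nd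 (.lf (.wit [1, 4, 2, 6, 5, 1, 4] [422, 422])) (.lf (.wit [1, 3, 5, 0, 1] [422, 422]))))) (.nd (.nd (.nd (.lf (.wit [1, 5, 6, 3] [422, 422])) (.lf (.wit [1, 4, 2, 6, 5, 1, 4] [422, 422]))) (.nd (.lf (.wit [3, 4, 6, 2, 3] [422, 422])) (.lf (.wit [1, 4, 2, 6, 5, 1, 4] [422, 422])))) (.nd (.nd (.lf (.wit [1, 4, 2, 6, 5, 1, 4] [422, 422])) (.lf (.wit [1, 4, 2, 6, 5, 1, 4] [422, 422]))) (.nd (.lf (.wit [3, 4, 6, 2, 3] [422, 422])) (.lf (.wit [1, 4, 2, 6, 5, 1, 4] [422, 422])))))) (.nd (.nd (.nd (.nd (.lf (.wit [1, 5, 6, 3] [422, 422])) (.lf (.wit [1, 4, 2, 6, 5, 1, 4] [422, 422]))) (.nd (.lf (.wit [3, 4, 6, 2, 3] [422, 422])) (.lf (.wit [1, 4, 2, 6, 5, 1, 4] [422, 422])))) (.nd (.nd (.lf (.wit [1, 4, 2, 6, 5, 1, 4] [422, 422])) (.lf (.wit [1, 3, 5, 0, 1] [422, 422]))) (.nd (.lf (.wit [1, 3, 5, 0, 1] [422, 422]))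 (.lf (.wit [1, 3, 5, 0, 1] [422, 422]))))) (.nd (.nd (.nd (.lf (.wit [1, 5, 6, 3] [422, 422])) (.lf (.wit [1, 4, 2, 6, 5, 1, 4] [422, 422]))) (.nd (.lf (.wit [1, 4, 2, 6, 5, 1, 4] [422, 422])) (.lf (.wit [1, 3, 5, 0, 1] [422, 422])))) (.nd (.nd (.lf (.wit [3, 7, 6] [422, 422])) (.lf (.wit [1, 3, 5, 0, 1] [422, 422]))) (.nd (.lf (.wit [3, 4, 6, 2, 3] [422, 422])) (.lf (.wit [1, 4, 2, 6, 5, 1, 4] [422, 422])))))))))) (.nd (.nd (.nd (.nd (.nd (.nd (.nd (.nd (.lf (.inD [])) (.lf (.wit [1, 3, 5, 0, 1] [422, 422]))) (.nd (.lf (.wit [1, 3, 2, 3] [422, 422])) (.lf (.wit [1, 3, 5, 0, 1] [422, 422])))) (.nd (.nd (.lf (.wit [1, 3, 6] [422, 422])) (.lf (.wit [1, 4, 2, 6, 5, 1, 4] [422, 422]))) (.nd (.lf (.wit [1, 4, 2, 6, 5, 1, 4] [422, 422])) (.lf (.wit [1, 3, 5, 0, 1] [422, 422]))))) (.nd (.nd (.nd (.lf (.wit [1, 5,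 6, 3] [422, 422])) (.lf (.wit [1, 4, 2, 6, 5, 1, 4] [422, 422]))) (.nd (.lf (.wit [1, 4, 2, 6, 5, 1, 4] [422, 422])) (.lf (.wit [1, 4, 2, 6, 5, 1, 4] [422, 422])))) (.nd (.nd (.lf (.wit [1, 4, 2, 6, 5, 1, 4] [422, 422])) (.lf (.inD [3, 2, 1, 0, 5, 1, 2, 3, 6, 5, 7, 3, 2, 6, 7, 3]))) (.nd (.lf (.wit [1, 4, 2, 6, 5, 1, 4] [422, 422])) (.lf (.wit [1, 3, 5, 0, 1] [422, 422])))))) (.nd (.nd (.nd (.nd (.lf (.wit [1, 3, 6] [422, 422])) (.lf (.wit [1, 4, 2, 6, 5, 1, 4] [422, 422]))) (.nd (.lf (.wit [1, 4, 2, 6, 5, 1, 4] [422, 422])) (.lf (.wit [1, 3, 5, 0, 1] [422, 422])))) (.nd (.nd (.lf (.wit [1, 4, 2, 6, 5, 1, 4] [422, 422])) (.lf (.wit [1, 4, 2, 6, 5, 1, 4] [422, 422]))) (.nd (.lf (.wit [1, 4, 2, 6, 5, 1, 4] [422, 422])) (.lf (.wit [1, 4, 2, 6, 5, 1, 4] [422, 422]))))) (.nd (.nd (.nd (.lf (.wit [1, 3, 6] [422,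 422])) (.lf (.wit [1, 4, 2, 6, 5, 1, 4] [422, 422]))) (.nd (.lf (.wit [3, 4, 6, 2, 3] [422, 422])) (.lf (.wit [1, 4, 2, 6, 5, 1, 4] [439, 422])))) (.nd (.nd (.lf (.wit [1, 4, 2, 6, 5, 1, 4] [422, 422])) (.lf (.wit [1, 4, 2, 6, 5, 1, 4] [422, 422]))) (.nd (.lf (.wit [3, 4, 6, 2, 3] [422, 422])) (.lf (.wit [1, 4, 2, 6, 5, 1, 4] [422, 422]))))))) (.nd (.nd (.nd (.nd (.nd (.lf (.wit [3, 1] [422, 422])) (.lf (.wit [1, 3, 5, 0, 1] [422, 422]))) (.nd (.lf (.wit [1, 3, 5, 0, 1] [422, 422])) (.lf (.wit [1, 3, 5, 0, 1] [422, 439])))) (.nd (.nd (.lf (.wit [1, 5, 6, 3] [422, 422])) (.lf (.wit [1, 4, 2, 6, 5, 1, 4] [422, 422]))) (.nd (.lf (.wit [1, 4, 2, 6, 5, 1, 4] [422, 422])) (.lf (.wit [1, 3, 5, 0, 1] [422, 422]))))) (.nd (.nd (.nd (.lf (.wit [1, 5, 6, 3] [422, 422])) (.lf (.wit [1, 4, 2, 6, 5, 1, 4] [422, 422]))) (.nd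 (.lf (.wit [1, 4, 2, 6, 5, 1, 4] [422, 422])) (.lf (.wit [1, 4, 2, 6, 5, 1, 4] [422, 422])))) (.nd (.nd (.lf (.wit [1, 4, 2, 6, 5, 1, 4] [422, 422])) (.lf (.wit [1, 4, 2, 6, 5, 1, 4] [422, 422]))) (.nd (.lf (.wit [3, 4, 6, 2, 3] [422, 422])) (.lf (.wit [1, 4, 2, 6, 5, 1, 4] [422, 422])))))) (.nd (.nd (.nd (.nd (.lf (.wit [1, 5, 6, 3] [422, 422])) (.lf (.wit [1, 4, 2, 6, 5, 1, 4] [422, 422]))) (.nd (.lf (.wit [1, 4, 2, 6, 5, 1, 4] [422, 422])) (.lf (.wit [1, 4, 2, 6, 5, 1, 4] [422, 422])))) (.nd (.nd (.lf (.wit [1, 4, 2, 6, 5, 1, 4] [422, 422])) (.lf (.wit [1, 3, 5, 0, 1] [422, 422]))) (.nd (.lf (.wit [1, 3, 5, 0, 1] [422, 422])) (.lf (.wit [1, 4, 2, 6, 5, 1, 4] [422, 422]))))) (.nd (.nd (.nd (.lf (.wit [1, 5, 6, 3] [422, 422])) (.lf (.wit [1, 4, 2, 6, 5, 1, 4] [422, 422]))) (.nd (.lf (.wit [3, 4, 6, 2, 3] [422,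 422])) (.lf (.wit [1, 3, 5, 0, 1] [422, 422])))) (.nd (.nd (.lf (.wit [3, 7, 6] [422, 422])) (.lf (.wit [1, 4, 2, 6, 5, 1, 4] [422, 422]))) (.nd (.lf (.wit [1, 4, 2, 6, 5, 1, 4] [422, 422])) (.lf (.wit [1, 4, 2, 6, 5, 1, 4] [422, 422])))))))) (.nd (.nd (.nd (.nd (.nd (.nd (.lf (.wit [6, 3] [422, 422])) (.lf (.wit [1, 3, 5, 0, 1] [439, 439]))) (.nd (.lf (.wit [1, 3, 2, 3] [422, 422])) (.lf (.wit [1, 4, 2, 6, 5, 1, 4] [422, 422])))) (.nd (.nd (.lf (.wit [1, 5, 6, 3] [422, 422])) (.lf (.wit [1, 3, 5, 0, 1] [439, 422]))) (.nd (.lf (.wit [1, 4, 2, 6, 5, 1, 4] [439, 422])) (.lf (.wit [1, 4, 2, 6, 5, 1, 4] [422, 422]))))) (.nd (.nd (.nd (.lf (.wit [1, 5, 6, 3] [422, 422])) (.lf (.wit [1, 4, 2, 6, 5, 1, 4] [422, 422]))) (.nd (.lf (.wit [1, 4, 2, 6, 5, 1, 4] [422, 422])) (.lf (.wit [1, 4, 2, 6, 5, 1, 4] [422, 422]))))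 (.nd (.nd (.lf (.wit [1, 4, 2, 6, 5, 1, 4] [422, 422])) (.lf (.wit [1, 4, 2, 6, 5, 1, 4] [422, 422]))) (.nd (.lf (.wit [1, 4, 2, 6, 5, 1, 4] [422, 422])) (.lf (.wit [1, 4, 2, 6, 5, 1, 4] [422, 422])))))) (.nd (.nd (.nd (.nd (.lf (.wit [1, 5, 6, 3] [422, 422])) (.lf (.wit [1, 4, 2, 6, 5, 1, 4] [422, 422]))) (.nd (.lf (.wit [1, 4, 2, 6, 5, 1, 4] [422, 422])) (.lf (.wit [1, 4, 2, 6, 5, 1, 4] [422, 422])))) (.nd (.nd (.lf (.wit [1, 4, 2, 6, 5, 1, 4] [422, 422])) (.lf (.wit [1, 3, 5, 0, 1] [439, 439]))) (.nd (.lf (.wit [1, 4, 2, 6, 5, 1, 4] [422, 422])) (.lf (.wit [1, 3, 5, 0, 1] [439, 422]))))) (.nd (.nd (.nd (.lf (.wit [1, 3, 6] [422, 422])) (.lf (.wit [1, 4, 2, 6, 5, 1, 4] [422, 422]))) (.nd (.lf (.inD [3, 2, 1, 0, 4, 3, 5, 1])) (.lf (.wit [1, 4, 2, 6, 5, 1, 4] [422, 422])))) (.nd (.nd (.lf (.wit [3, 7, 6] [422,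 422])) (.lf (.wit [1, 4, 2, 6, 5, 1, 4] [439, 422]))) (.nd (.lf (.wit [3, 4, 6, 2, 3] [422, 422])) (.lf (.wit [1, 4, 2, 6, 5, 1, 4] [422, 422]))))))) (.nd (.nd (.nd (.nd (.nd (.lf (.wit [6, 3] [422, 422])) (.lf (.wit [1, 4, 2, 6, 5, 1, 4] [422, 422]))) (.nd (.lf (.wit [1, 3, 5, 0, 1] [422, 422])) (.lf (.wit [1, 3, 5, 0, 1] [422, 422])))) (.nd (.nd (.lf (.wit [1, 5, 6, 3] [422, 422])) (.lf (.wit [1, 4, 2, 6, 5, 1, 4] [439, 422]))) (.nd (.lf (.wit [1, 4, 2, 6, 5, 1, 4] [439, 422])) (.lf (.wit [1, 3, 5, 0, 1] [422, 422]))))) (.nd (.nd (.nd (.lf (.wit [1, 5, 6, 3] [422, 422])) (.lf (.wit [1, 4, 2, 6, 5, 1, 4] [422, 422]))) (.nd (.lf (.wit [3, 4, 6, 2, 3] [422, 422])) (.lf (.wit [1, 3, 5, 0, 1] [439, 422])))) (.nd (.nd (.lf (.wit [1, 4, 2, 6, 5, 1, 4] [422, 422])) (.lf (.wit [1, 4, 2, 6, 5, 1, 4] [422, 422]))) (.nd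 (.lf (.wit [3, 4, 6, 2, 3] [422, 422])) (.lf (.wit [1, 4, 2, 6, 5, 1, 4] [422, 422])))))) (.nd (.nd (.nd (.nd (.lf (.wit [1, 5, 6, 3] [422, 422])) (.lf (.wit [1, 4, 2, 6, 5, 1, 4] [422, 422]))) (.nd (.lf (.wit [3, 4, 6, 2, 3] [422, 422])) (.lf (.wit [1, 4, 2, 6, 5, 1, 4] [422, 422])))) (.nd (.nd (.lf (.wit [1, 4, 2, 6, 5, 1, 4] [422, 422])) (.lf (.wit [1, 3, 5, 0, 1] [422, 422]))) (.nd (.lf (.wit [1, 3, 5, 0, 1] [422, 422])) (.lf (.wit [1, 3, 5, 0, 1] [422, 422]))))) (.nd (.nd (.nd (.lf (.wit [1, 5, 6, 3] [422, 422])) (.lf (.wit [1, 4, 2, 6, 5, 1, 4] [422, 422]))) (.nd (.lf (.wit [1, 4, 2, 6, 5, 1, 4] [422, 422])) (.lf (.wit [1, 3, 5, 0, 1] [439, 439])))) (.nd (.nd (.lf (.wit [3, 7, 6] [422, 439])) (.lf (.inD [3, 2, 1, 0, 5, 1, 2, 3, 6, 5, 7, 6]))) (.nd (.lf (.wit [3, 4, 6, 2, 3] [422, 422])) (.lf (.wit [1,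 4, 2, 6, 5, 1, 4] [422, 422]))))))))) (.nd (.nd (.nd (.nd (.nd (.nd (.nd (.lf (.wit [3, 1] [422, 422])) (.lf (.wit [1, 3, 5, 0, 1] [422, 422]))) (.nd (.lf (.wit [3, 7, 6] [422, 422])) (.lf (.wit [1, 4, 2, 6, 5, 1, 4] [422, 422])))) (.nd (.nd (.lf (.wit [1, 3, 6] [422, 422])) (.lf (.wit [1, 4, 2, 6, 5, 1, 4] [422, 422]))) (.nd (.lf (.wit [1, 4, 2, 6, 5, 1, 4] [422, 422])) (.lf (.wit [1, 3, 5, 0, 1] [422, 422]))))) (.nd (.nd (.nd (.lf (.wit [1, 5, 6, 3] [422, 422])) (.lf (.wit [1, 4, 2, 6, 5, 1, 4] [422, 422]))) (.nd (.lf (.wit [1, 4, 2, 6, 5, 1, 4] [422, 422])) (.lf (.wit [1, 4, 2, 6, 5, 1, 4] [422, 422])))) (.nd (.nd (.lf (.wit [1, 4, 2, 6, 5, 1, 4] [422, 422])) (.lf (.wit [1, 3, 5, 0, 1] [422, 422]))) (.nd (.lf (.wit [1, 4, 2, 6, 5, 1, 4] [422, 422])) (.lf (.wit [1, 4, 2, 6, 5, 1, 4] [422, 422])))))) (.nd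 (.nd (.nd (.nd (.lf (.wit [1, 3, 6] [422, 422])) (.lf (.wit [1, 4, 2, 6, 5, 1, 4] [422, 422]))) (.nd (.lf (.wit [1, 4, 2, 6, 5, 1, 4] [422, 422])) (.lf (.wit [1, 3, 5, 0, 1] [422, 422])))) (.nd (.nd (.lf (.wit [1, 4, 2, 6, 5, 1, 4] [422, 422])) (.lf (.wit [1, 3, 5, 0, 1] [422, 422]))) (.nd (.lf (.wit [1, 4, 2, 6, 5, 1, 4] [422, 422])) (.lf (.inD [3, 2, 1, 0, 5, 1, 2, 3, 6, 5, 1, 2, 7, 6, 5, 1]))))) (.nd (.nd (.nd (.lf (.wit [1, 3, 6] [422, 422])) (.lf (.wit [1, 3, 5, 0, 1] [422, 422]))) (.nd (.lf (.wit [3, 4, 6, 2, 3] [422, 422])) (.lf (.wit [1, 4, 2, 6, 5, 1, 4] [422, 422])))) (.nd (.nd (.lf (.wit [3, 7, 6] [422, 422])) (.lf (.wit [1, 4, 2, 6, 5, 1, 4] [422, 422]))) (.nd (.lf (.wit [3, 4, 6, 2, 3] [422, 422])) (.lf (.wit [1, 4, 2, 6, 5, 1, 4] [422, 422]))))))) (.nd (.nd (.nd (.nd (.nd (.lf (.wit [6, 3] [422,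 422])) (.lf (.wit [1, 4, 2, 6, 5, 1, 4] [422, 422]))) (.nd (.lf (.wit [1, 3, 2, 3] [422, 422])) (.lf (.wit [1, 3, 5, 0, 1] [422, 422])))) (.nd (.nd (.lf (.wit [1, 5, 6, 3] [422, 422])) (.lf (.wit [1, 4, 2, 6, 5, 1, 4] [422, 422]))) (.nd (.lf (.wit [1, 4, 2, 6, 5, 1, 4] [422, 422])) (.lf (.wit [1, 3, 5, 0, 1] [422, 422]))))) (.nd (.nd (.nd (.lf (.wit [1, 5, 6, 3] [422, 422])) (.lf (.wit [1, 4, 2, 6, 5, 1, 4] [422, 422]))) (.nd (.lf (.wit [3, 4, 6, 2, 3] [422, 422])) (.lf (.inD [3, 2, 1, 0, 5, 1, 2, 3, 6, 5, 7, 3, 2, 4, 3, 6])))) (.nd (.nd (.lf (.wit [1, 4, 2, 6, 5, 1, 4] [422, 422])) (.lf (.wit [1, 4, 2, 6, 5, 1, 4] [422, 422]))) (.nd (.lf (.wit [3, 4, 6, 2, 3] [439, 422])) (.lf (.wit [1, 4, 2, 6, 5, 1, 4] [422, 422])))))) (.nd (.nd (.nd (.nd (.lf (.wit [1, 5, 6, 3] [422, 422])) (.lf (.wit [1, 4, 2, 6, 5, 1,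 4] [422, 422]))) (.nd (.lf (.wit [3, 4, 6, 2, 3] [422, 422])) (.lf (.wit [1, 4, 2, 6, 5, 1, 4] [422, 422])))) (.nd (.nd (.lf (.wit [1, 4, 2, 6, 5, 1, 4] [422, 422])) (.lf (.wit [1, 3, 5, 0, 1] [422, 422]))) (.nd (.lf (.wit [1, 4, 2, 6, 5, 1, 4] [422, 422])) (.lf (.wit [1, 3, 5, 0, 1] [422, 422]))))) (.nd (.nd (.nd (.lf (.wit [1, 5, 6, 3] [422, 422])) (.lf (.wit [1, 4, 2, 6, 5, 1, 4] [422, 422]))) (.nd (.lf (.wit [3, 4, 6, 2, 3] [422, 422])) (.lf (.wit [1, 3, 5, 0, 1] [422, 422])))) (.nd (.nd (.lf (.wit [3, 7, 6] [422, 422])) (.lf (.wit [1, 4, 2, 6, 5, 1, 4] [422, 422]))) (.nd (.lf (.wit [3, 4, 6, 2, 3] [422, 422])) (.lf (.wit [1, 4, 2, 6, 5, 1, 4] [422, 422])))))))) (.nd (.nd (.nd (.nd (.nd (.nd (.lf (.wit [3, 1] [439, 422])) (.lf (.wit [1, 3, 5, 0, 1] [422, 422]))) (.nd (.lf (.wit [1, 4, 2, 6, 5, 1, 4] [422,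 422])) (.lf (.wit [1, 3, 5, 0, 1] [422, 422])))) (.nd (.nd (.lf (.wit [1, 5, 6, 3] [422, 422])) (.lf (.wit [1, 3, 5, 0, 1] [422, 422]))) (.nd (.lf (.wit [1, 4, 2, 6, 5, 1, 4] [422, 422])) (.lf (.wit [1, 4, 2, 6, 5, 1, 4] [422, 422]))))) (.nd (.nd (.nd (.lf (.wit [1, 5, 6, 3] [439, 439])) (.lf (.wit [1, 4, 2, 6, 5, 1, 4] [422, 422]))) (.nd (.lf (.wit [1, 4, 2, 6, 5, 1, 4] [422, 422])) (.lf (.wit [1, 4, 2, 6, 5, 1, 4] [422, 422])))) (.nd (.nd (.lf (.wit [1, 4, 2, 6, 5, 1, 4] [422, 422])) (.lf (.wit [1, 4, 2, 6, 5, 1, 4] [422, 422]))) (.nd (.lf (.wit [1, 4, 2, 6, 5, 1, 4] [422, 422])) (.lf (.wit [1, 4, 2, 6, 5, 1, 4] [422, 422])))))) (.nd (.nd (.nd (.nd (.lf (.wit [1, 5, 6, 3] [422, 422])) (.lf (.wit [1, 4, 2, 6, 5, 1, 4] [422, 422]))) (.nd (.lf (.wit [1, 4, 2, 6, 5, 1, 4] [422, 422])) (.lf (.wit [1, 4, 2, 6,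 5, 1, 4] [422, 422])))) (.nd (.nd (.lf (.wit [1, 4, 2, 6, 5, 1, 4] [422, 422])) (.lf (.wit [1, 3, 5, 0, 1] [422, 422]))) (.nd (.lf (.wit [1, 4, 2, 6, 5, 1, 4] [422, 422])) (.lf (.wit [1, 4, 2, 6, 5, 1, 4] [422, 422]))))) (.nd (.nd (.nd (.lf (.wit [1, 5, 6, 3] [422, 422])) (.lf (.wit [1, 4, 2, 6, 5, 1, 4] [422, 422]))) (.nd (.lf (.wit [3, 4, 6, 2, 3] [422, 422])) (.lf (.wit [1, 4, 2, 6, 5, 1, 4] [422, 422])))) (.nd (.nd (.lf (.wit [3, 7, 6] [422, 422])) (.lf (.wit [1, 4, 2, 6, 5, 1, 4] [422, 422]))) (.nd (.lf (.wit [1, 4, 2, 6, 5, 1, 4] [422, 422])) (.lf (.wit [1, 4, 2, 6, 5, 1, 4] [422, 422]))))))) (.nd (.nd (.nd (.nd (.nd (.lf (.wit [1, 5, 6, 3] [422, 422])) (.lf (.wit [1, 4, 2, 6, 5, 1, 4] [422, 422]))) (.nd (.lf (.wit [1, 4, 2, 6, 5, 1, 4] [422, 422])) (.lf (.wit [1, 3, 5, 0, 1] [439, 422])))) (.nd (.nd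 (.lf (.inD [3, 2, 1, 4, 3, 2, 5, 1])) (.lf (.wit [1, 4, 2, 6, 5, 1, 4] [422, 422]))) (.nd (.lf (.wit [1, 4, 2, 6, 5, 1, 4] [422, 422])) (.lf (.wit [1, 4, 2, 6, 5, 1, 4] [422, 422]))))) (.nd (.nd (.nd (.lf (.wit [1, 5, 6, 3] [422, 422])) (.lf (.wit [1, 4, 2, 6, 5, 1, 4] [422, 422]))) (.nd (.lf (.wit [3, 4, 6, 2, 3] [422, 422])) (.lf (.wit [1, 4, 2, 6, 5, 1, 4] [422, 422])))) (.nd (.nd (.lf (.wit [1, 4, 2, 6, 5, 1, 4] [422, 422])) (.lf (.wit [1, 4, 2, 6, 5, 1, 4] [422, 422]))) (.nd (.lf (.wit [3, 4, 6, 2, 3] [422, 422])) (.lf (.wit [1, 4, 2, 6, 5, 1, 4] [422, 422])))))) (.nd (.nd (.nd (.nd (.lf (.wit [1, 5, 6, 3] [422, 422])) (.lf (.wit [1, 4, 2, 6, 5, 1, 4] [422, 422]))) (.nd (.lf (.inD [3, 2, 1, 0, 5, 1, 2, 3, 6, 5, 1, 0, 2, 1, 5, 6])) (.lf (.wit [1, 4, 2, 6, 5, 1, 4] [422, 422])))) (.nd (.nd (.lf (.wit [1,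 4, 2, 6, 5, 1, 4] [422, 422])) (.lf (.wit [1, 3, 5, 0, 1] [439, 439]))) (.nd (.lf (.wit [1, 4, 2, 6, 5, 1, 4] [422, 422])) (.lf (.wit [1, 3, 5, 0, 1] [439, 422]))))) (.nd (.nd (.nd (.lf (.wit [1, 5, 6, 3] [422, 422])) (.lf (.wit [1, 4, 2, 6, 5, 1, 4] [422, 422]))) (.nd (.lf (.wit [1, 4, 2, 6, 5, 1, 4] [422, 422])) (.lf (.wit [1, 3, 5, 0, 1] [422, 422])))) (.nd (.nd (.lf (.wit [3, 7, 6] [422, 422])) (.lf (.wit [1, 3, 5, 0, 1] [422, 422]))) (.nd (.lf (.wit [1, 3, 5, 0, 1] [422, 422])) (.lf (.wit [1, 4, 2, 6, 5, 1, 4] [422, 422])))))))))))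

theorem k0 : chkCand DD ap iv bsL 4 693 [2, 3] cd0 0 = true := by decide +kernel

/-- The candidates of a coset. -/
def cd1 : CT :=
  (.nd (.nd (.nd (.nd (.nd (.nd (.lf (.wit [1, 3, 5, 0, 1] [422, 422])) (.lf (.wit [1, 5, 6, 3] [422, 422]))) (.nd (.lf (.wit [1, 3, 5, 0, 1] [422, 422])) (.lf (.wit [1, 5, 6, 3] [422, 422])))) (.nd (.nd (.lf (.wit [1, 3, 6] [422, 422])) (.lf (.wit [1, 5, 6, 3] [422, 422]))) (.nd (.lf (.wit [1, 5, 6, 3] [422, 422])) (.lf (.wit [1, 5, 6, 3] [422, 422]))))) .nil) (.nd (.nd (.nd (.nd (.lf (.wit [1, 3, 5, 0, 1] [422, 422])) (.lf (.wit [1, 5, 6, 3] [422, 422]))) (.nd (.lf (.wit [1, 3, 6] [422, 422])) (.lf (.wit [1, 5, 6, 3] [422, 422])))) (.nd (.nd (.lf (.wit [1, 5, 6, 3] [422, 422])) (.lf (.wit [1, 5, 6, 3] [422, 422]))) (.nd (.lf (.wit [1, 5, 6, 3] [422, 422])) (.lf (.wit [1, 5,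 6, 3] [422, 422]))))) .nil)) (.nd (.nd (.nd (.nd (.nd (.lf (.wit [1, 3, 5, 0, 1] [422, 422])) (.lf (.wit [1, 5, 6, 3] [422, 422]))) (.nd (.lf (.wit [1, 3, 5, 0, 1] [422, 422])) (.lf (.wit [1, 5, 6, 3] [422, 422])))) (.nd (.nd (.lf (.wit [1, 5, 6, 3] [422, 422])) (.lf (.wit [1, 5, 6, 3] [422, 422]))) (.nd (.lf (.wit [1, 5, 6, 3] [422, 422])) (.lf (.wit [1, 5, 6, 3] [422, 422]))))) .nil) (.nd (.nd (.nd (.nd (.lf (.wit [1, 3, 5, 0, 1] [422, 422])) (.lf (.wit [1, 5, 6, 3] [422, 422]))) (.nd (.lf (.wit [1, 3, 6] [422, 422])) (.lf (.wit [1, 5, 6, 3] [422, 422])))) (.nd (.nd (.lf (.wit [1, 5, 6, 3] [422, 422])) (.lf (.wit [1, 5, 6, 3] [422, 422]))) (.nd (.lf (.wit [1, 5, 6, 3] [422, 439])) (.lf (.wit [1, 5, 6, 3] [422, 422]))))) .nil)))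

theorem k1 : chkCand DD ap iv bsL 4 693 [2, 3] cd1 1 = true := by decide +kernel

/-- The candidates of a coset. -/
def cd2 : CT :=
  (.nd (.nd (.nd (.nd (.nd (.nd (.lf (.wit [1, 5, 6, 3] [422, 422])) (.lf (.wit [1, 5, 6, 3] [422, 422]))) (.nd (.lf (.wit [1, 5, 6, 3] [422, 422])) (.lf (.wit [1, 5, 6, 3] [422, 422])))) (.nd (.nd (.lf (.wit [1, 3, 5, 0, 1] [422, 422])) (.lf (.wit [1, 5, 6, 3] [422, 422]))) (.nd (.lf (.wit [1, 3, 5, 0, 1] [422, 422])) (.lf (.wit [1, 5, 6, 3] [422, 422]))))) .nil) (.nd (.nd (.nd (.nd (.lf (.wit [1, 5, 6, 3] [422, 422])) (.lf (.wit [1, 5, 6, 3] [422, 422]))) (.nd (.lf (.wit [1, 5, 6, 3] [422, 422])) (.lf (.wit [1, 5, 6, 3] [422, 422])))) (.nd (.nd (.lf (.wit [1, 3, 5, 0, 1] [422, 422])) (.lf (.wit [1, 5, 6, 3] [422, 422]))) (.nd (.lf (.wit [1, 3, 5, 0, 1] [422, 422])) (.lf (.wit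 [1, 5, 6, 3] [422, 422]))))) .nil)) (.nd (.nd (.nd (.nd (.nd (.lf (.wit [1, 5, 6, 3] [422, 422])) (.lf (.wit [1, 5, 6, 3] [422, 422]))) (.nd (.lf (.wit [1, 5, 6, 3] [422, 422])) (.lf (.wit [1, 5, 6, 3] [422, 422])))) (.nd (.nd (.lf (.wit [1, 3, 5, 0, 1] [422, 422])) (.lf (.wit [1, 5, 6, 3] [422, 422]))) (.nd (.lf (.wit [1, 3, 5, 0, 1] [422, 422])) (.lf (.wit [1, 5, 6, 3] [422, 422]))))) .nil) (.nd (.nd (.nd (.nd (.lf (.wit [1, 5, 6, 3] [422, 422])) (.lf (.wit [1, 5, 6, 3] [422, 422]))) (.nd (.lf (.wit [1, 5, 6, 3] [422, 422])) (.lf (.wit [1, 5, 6, 3] [422, 422])))) (.nd (.nd (.lf (.wit [1, 3, 5, 0, 1] [422, 422])) (.lf (.wit [1, 5, 6, 3] [422, 422]))) (.nd (.lf (.wit [1, 3, 5, 0, 1] [422, 422])) (.lf (.wit [1, 3, 5, 0, 1] [422, 422]))))) .nil)))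

theorem k2 : chkCand DD ap iv bsL 4 693 [2, 3] cd2 2 = true := by decide +kernel

/-- The candidates of a coset. -/
def cd3 : CT :=
  (.nd (.nd (.nd (.nd (.nd (.nd (.nd (.lf (.wit [1, 5, 6, 3] [422, 422])) (.lf (.wit [1, 5, 6, 3] [422, 422]))) .nil) (.nd (.nd (.lf (.wit [1, 5, 6, 3] [422, 422])) (.lf (.wit [1, 5, 6, 3] [422, 422]))) .nil)) (.nd (.nd .nil (.nd (.lf (.wit [1, 5, 6, 3] [422, 422])) (.lf (.wit [1, 5, 6, 3] [422, 422])))) (.nd .nil (.nd (.lf (.wit [1, 5, 6, 3] [422, 422])) (.lf (.wit [1, 5, 6, 3] [422, 422])))))) .nil) (.nd (.nd (.nd (.nd (.nd (.lf (.wit [1, 5, 6, 3] [422, 422])) (.lf (.wit [1, 5, 6, 3] [422, 422]))) .nil) (.nd (.nd (.lf (.wit [1, 5, 6, 3] [422, 422])) (.lf (.wit [1, 5, 6, 3] [422, 422]))) .nil)) (.nd (.nd .nil (.nd (.lf (.wit [1, 5, 6, 3] [422, 422])) (.lf (.wit [1, 5, 6, 3] [422,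 422])))) (.nd .nil (.nd (.lf (.wit [1, 3, 5, 0, 1] [422, 422])) (.lf (.wit [1, 5, 6, 3] [422, 422])))))) .nil)) (.nd (.nd (.nd (.nd (.nd (.nd (.lf (.wit [1, 5, 6, 3] [422, 422])) (.lf (.wit [1, 5, 6, 3] [422, 422]))) .nil) (.nd (.nd (.lf (.wit [1, 5, 6, 3] [422, 422])) (.lf (.wit [1, 5, 6, 3] [422, 422]))) .nil)) (.nd (.nd .nil (.nd (.lf (.wit [1, 5, 6, 3] [422, 422])) (.lf (.wit [1, 5, 6, 3] [422, 422])))) (.nd .nil (.nd (.lf (.wit [1, 5, 6, 3] [422, 422])) (.lf (.wit [1, 5, 6, 3] [422, 422])))))) .nil) (.nd (.nd (.nd (.nd (.nd (.lf (.wit [1, 5, 6, 3] [422, 422])) (.lf (.wit [1, 5, 6, 3] [422, 422]))) .nil) (.nd (.nd (.lf (.wit [1, 5, 6, 3] [422, 422])) (.lf (.wit [1, 5, 6, 3] [422, 422]))) .nil)) (.nd (.nd .nil (.nd (.lf (.wit [1, 5, 6, 3] [422, 422])) (.lf (.wit [1, 5, 6, 3] [422, 422])))) (.nd .nil (.nd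 (.lf (.wit [1, 3, 5, 0, 1] [422, 422])) (.lf (.wit [1, 5, 6, 3] [422, 422])))))) .nil)))

theorem k3 : chkCand DD ap iv bsL 4 693 [2, 3] cd3 3 = true := by decide +kernel

/-- The candidates of a coset. -/
def cd4 : CT :=
  (.nd (.nd (.nd (.nd (.nd (.lf (.wit [1, 5, 6, 3] [422, 422])) (.lf (.wit [1, 5, 6, 3] [422, 422]))) (.nd (.lf (.wit [1, 5, 6, 3] [422, 422])) (.lf (.wit [1, 5, 6, 3] [422, 422])))) (.nd (.nd (.lf (.wit [1, 5, 6, 3] [422, 439])) (.lf (.wit [1, 5, 6, 3] [422, 422]))) (.nd (.lf (.wit [1, 3, 6] [422, 422])) (.lf (.wit [1, 5, 6, 3] [422, 422]))))) (.nd (.nd (.nd (.lf (.wit [1, 5, 6, 3] [422, 422])) (.lf (.wit [1, 5, 6, 3] [422, 422]))) (.nd (.lf (.wit [1, 5, 6, 3] [422, 422])) (.lf (.wit [1, 5, 6, 3] [422, 422])))) (.nd (.nd (.lf (.wit [1, 5, 6, 3] [422, 422])) (.lf (.wit [1, 3, 6] [422, 422])))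 (.nd (.lf (.wit [1, 5, 6, 3] [422, 422])) (.lf (.wit [1, 5, 6, 3] [422, 422])))))) (.nd (.nd (.nd (.nd (.lf (.wit [1, 5, 6, 3] [422, 422])) (.lf (.wit [1, 5, 6, 3] [422, 422]))) (.nd (.lf (.wit [1, 5, 6, 3] [422, 422])) (.lf (.wit [1, 5, 6, 3] [422, 422])))) (.nd (.nd (.lf (.wit [1, 5, 6, 3] [422, 422])) (.lf (.wit [1, 5, 6, 3] [422, 422]))) (.nd (.lf (.wit [1, 5, 6, 3] [422, 422])) (.lf (.wit [1, 5, 6, 3] [422, 422]))))) (.nd (.nd (.nd (.lf (.wit [1, 5, 6, 3] [422, 422])) (.lf (.wit [1, 5, 6, 3] [422, 422]))) (.nd (.lf (.wit [1, 5, 6, 3] [422, 422])) (.lf (.wit [1, 5, 6, 3] [422, 422])))) (.nd (.nd (.lf (.wit [1, 5, 6, 3] [422, 422])) (.lf (.wit [1, 3, 6] [422, 422]))) (.nd (.lf (.wit [1, 5, 6, 3] [422, 422])) (.lf (.wit [1, 5, 6, 3] [422, 422])))))))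

theorem k4 : chkCand DD ap iv bsL 4 693 [2, 3] cd4 4 = true := by decide +kernel

/-- The candidates of a coset. -/
def cd5 : CT :=
  (.nd (.nd (.nd (.nd (.nd (.lf (.wit [1, 5, 6, 3] [422, 422])) (.lf (.wit [1, 5, 6, 3] [422, 422]))) (.nd (.lf (.wit [1, 5, 6, 3] [422, 422])) (.lf (.wit [1, 5, 6, 3] [422, 422])))) (.nd (.nd (.lf (.wit [1, 5, 6, 3] [422, 422])) (.lf (.wit [1, 5, 6, 3] [422, 422]))) (.nd (.lf (.wit [1, 5, 6, 3] [422, 422])) (.lf (.wit [1, 5, 6, 3] [422, 422]))))) (.nd (.nd (.nd (.lf (.wit [1, 5, 6, 3] [422, 422])) (.lf (.wit [1, 5, 6, 3] [422, 422]))) (.nd (.lf (.wit [1, 5, 6, 3] [422, 422])) (.lf (.wit [1, 5, 6, 3] [422, 422])))) (.nd (.nd (.lf (.wit [1, 5, 6, 3] [422, 422])) (.lf (.wit [1, 5, 6, 3] [422, 422]))) (.nd (.lf (.wit [1, 5, 6, 3] [422, 422])) (.lf (.wit [1, 5, 6, 3] [422, 422]))))))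 (.nd (.nd (.nd (.nd (.lf (.wit [1, 5, 6, 3] [422, 422])) (.lf (.wit [1, 5, 6, 3] [422, 422]))) (.nd (.lf (.wit [1, 5, 6, 3] [422, 422])) (.lf (.wit [1, 5, 6, 3] [439, 422])))) (.nd (.nd (.lf (.wit [1, 5, 6, 3] [422, 422])) (.lf (.wit [1, 5, 6, 3] [422, 422]))) (.nd (.lf (.wit [1, 5, 6, 3] [422, 422])) (.lf (.wit [1, 5, 6, 3] [422, 422]))))) (.nd (.nd (.nd (.lf (.wit [1, 5, 6, 3] [422, 422])) (.lf (.wit [1, 5, 6, 3] [422, 422]))) (.nd (.lf (.wit [1, 5, 6, 3] [422, 422])) (.lf (.wit [1, 5, 6, 3] [422, 422])))) (.nd (.nd (.lf (.wit [1, 5, 6, 3] [422, 439])) (.lf (.wit [1, 3, 6] [422, 439]))) (.nd (.lf (.wit [1, 5, 6, 3] [422, 422])) (.lf (.wit [1, 5, 6, 3] [422, 422])))))))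

theorem k5 : chkCand DD ap iv bsL 4 693 [2, 3] cd5 5 = true := by decide +kernel

/-- The candidates of a coset. -/
def cd6 : CT :=
  (.nd (.nd (.nd (.nd (.nd (.lf (.wit [1, 5, 6, 3] [439, 422])) (.lf (.wit [1, 5, 6, 3] [422, 422]))) (.nd (.lf (.wit [1, 5, 6, 3] [422, 422])) (.lf (.wit [1, 5, 6, 3] [422, 422])))) (.nd (.nd (.lf (.wit [1, 5, 6, 3] [422, 422])) (.lf (.wit [1, 5, 6, 3] [422, 422]))) (.nd (.lf (.wit [1, 3, 6] [422, 422])) (.lf (.wit [1, 3, 6] [422, 422]))))) (.nd (.nd (.nd (.lf (.wit [1, 5, 6, 3] [422, 422])) (.lf (.wit [1, 5, 6, 3] [422, 422]))) (.nd (.lf (.wit [1, 5, 6, 3] [422, 422])) (.lf (.wit [1, 5, 6, 3] [422, 422])))) (.nd (.nd (.lf (.wit [1, 5, 6, 3] [422, 422])) (.lf (.wit [1, 5, 6, 3] [422, 422]))) (.nd (.lf (.wit [1, 3, 6] [422, 422])) (.lf (.wit [1, 5, 6, 3] [422, 422])))))) (.nd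 (.nd (.nd (.nd (.lf (.wit [1, 5, 6, 3] [422, 422])) (.lf (.wit [1, 5, 6, 3] [422, 422]))) (.nd (.lf (.wit [1, 5, 6, 3] [422, 422])) (.lf (.wit [1, 5, 6, 3] [422, 422])))) (.nd (.nd (.lf (.wit [1, 5, 6, 3] [422, 422])) (.lf (.wit [1, 5, 6, 3] [422, 422]))) (.nd (.lf (.wit [1, 3, 6] [422, 422])) (.lf (.wit [1, 5, 6, 3] [422, 422]))))) (.nd (.nd (.nd (.lf (.wit [1, 5, 6, 3] [422, 422])) (.lf (.wit [1, 5, 6, 3] [422, 422]))) (.nd (.lf (.wit [1, 5, 6, 3] [422, 422])) (.lf (.wit [1, 5, 6, 3] [422, 422])))) (.nd (.nd (.lf (.wit [1, 5, 6, 3] [422, 422])) (.lf (.wit [1, 5, 6, 3] [422, 422]))) (.nd (.lf (.wit [1, 3, 6] [422, 422])) (.lf (.wit [1, 5, 6, 3] [422, 422])))))))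

theorem k6 : chkCand DD ap iv bsL 4 693 [2, 3] cd6 6 = true := by decide +kernel

/-- The candidates of a coset. -/
def cd7 : CT :=
  (.nd (.nd (.nd (.nd (.nd (.lf (.wit [1, 5, 6, 3] [422, 422])) (.lf (.wit [1, 5, 6, 3] [422, 422]))) (.nd (.lf (.wit [1, 5, 6, 3] [422, 422])) (.lf (.wit [1, 5, 6, 3] [422, 422])))) (.nd (.nd (.lf (.wit [1, 5, 6, 3] [422, 422])) (.lf (.wit [1, 5, 6, 3] [422, 422]))) (.nd (.lf (.wit [1, 5, 6, 3] [422, 422])) (.lf (.wit [1, 5, 6, 3] [422, 422]))))) (.nd (.nd (.nd (.lf (.wit [1, 5, 6, 3] [422, 422])) (.lf (.wit [1, 5, 6, 3] [422, 422]))) (.nd (.lf (.wit [1, 5, 6, 3] [422, 422])) (.lf (.wit [1, 5, 6, 3] [422, 422])))) (.nd (.nd (.lf (.wit [1, 5, 6, 3] [422, 422])) (.lf (.wit [1, 5, 6, 3] [422, 422]))) (.nd (.lf (.wit [1, 5, 6, 3] [422, 422])) (.lf (.wit [1, 5, 6, 3] [422, 422]))))))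 (.nd (.nd (.nd (.nd (.lf (.wit [1, 5, 6, 3] [422, 422])) (.lf (.wit [1, 5, 6, 3] [422, 422]))) (.nd (.lf (.wit [1, 5, 6, 3] [422, 422])) (.lf (.wit [1, 5, 6, 3] [422, 422])))) (.nd (.nd (.lf (.wit [1, 5, 6, 3] [422, 422])) (.lf (.wit [1, 5, 6, 3] [422, 422]))) (.nd (.lf (.wit [1, 5, 6, 3] [422, 422])) (.lf (.wit [1, 5, 6, 3] [422, 422]))))) (.nd (.nd (.nd (.lf (.wit [1, 5, 6, 3] [422, 422])) (.lf (.wit [1, 5, 6, 3] [422, 422]))) (.nd (.lf (.wit [1, 5, 6, 3] [422, 422])) (.lf (.wit [1, 5, 6, 3] [422, 422])))) (.nd (.nd (.lf (.wit [1, 5, 6, 3] [422, 422])) (.lf (.wit [1, 5, 6, 3] [422, 422]))) (.nd (.lf (.wit [1, 5, 6, 3] [422, 422])) (.lf (.wit [1, 5, 6, 3] [422, 422])))))))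

theorem k7 : chkCand DD ap iv bsL 4 693 [2, 3] cd7 7 = true := by decide +kernel

/-- The candidates of a coset. -/
def cd8 : CT :=
  (.nd (.nd (.nd (.nd (.nd (.lf (.wit [1, 5, 6, 3] [422, 422])) (.lf (.wit [1, 3, 5, 0, 1] [422, 422]))) (.nd (.lf (.wit [1, 3, 5, 0, 1] [422, 422])) (.lf (.wit [1, 3, 5, 0, 1] [422, 422])))) (.nd (.nd (.lf (.wit [1, 3, 5, 0, 1] [422, 422])) (.lf (.wit [1, 3, 5, 0, 1] [422, 422]))) (.nd (.lf (.wit [1, 3, 5, 0, 1] [422, 422])) (.lf (.wit [1, 3, 5, 0, 1] [422, 422]))))) (.nd (.nd (.nd (.lf (.wit [1, 3, 5, 0, 1] [422, 422])) (.lf (.wit [1, 3, 5, 0, 1] [422, 422]))) (.nd (.lf (.wit [1, 3, 5, 0, 1] [422, 422])) (.lf (.wit [1, 3, 5, 0, 1] [422, 422])))) (.nd (.nd (.lf (.wit [1, 3, 5, 0, 1] [422, 422])) (.lf (.wit [1, 3, 5, 0, 1] [422, 422]))) (.nd (.lf (.wit [1, 3, 5, 0, 1] [422, 422]))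 (.lf (.wit [1, 3, 5, 0, 1] [422, 422])))))) (.nd (.nd (.nd (.nd (.lf (.wit [1, 5, 6, 3] [422, 422])) (.lf (.wit [1, 3, 5, 0, 1] [422, 422]))) (.nd (.lf (.wit [1, 3, 5, 0, 1] [422, 422])) (.lf (.wit [1, 3, 5, 0, 1] [422, 422])))) (.nd (.nd (.lf (.wit [1, 3, 5, 0, 1] [422, 422])) (.lf (.wit [1, 3, 5, 0, 1] [422, 422]))) (.nd (.lf (.wit [1, 3, 5, 0, 1] [422, 422])) (.lf (.wit [1, 3, 5, 0, 1] [422, 422]))))) (.nd (.nd (.nd (.lf (.wit [1, 3, 5, 0, 1] [422, 422])) (.lf (.wit [1, 3, 5, 0, 1] [422, 422]))) (.nd (.lf (.wit [1, 3, 5, 0, 1] [422, 422])) (.lf (.wit [1, 3, 5, 0, 1] [422, 422])))) (.nd (.nd (.lf (.wit [1, 3, 5, 0, 1] [422, 422])) (.lf (.wit [1, 3, 5, 0, 1] [422, 422]))) (.nd (.lf (.wit [1, 3, 5, 0, 1] [422, 422])) (.lf (.wit [1, 3, 5, 0, 1] [422, 422])))))))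

theorem k8 : chkCand DD ap iv bsL 4 693 [2, 3] cd8 8 = true := by decide +kernel

/-- The candidates of a coset. -/
def cd9 : CT :=
  (.nd (.nd (.nd (.nd (.nd (.lf (.wit [1, 5, 6, 3] [422, 422])) (.lf (.wit [1, 5, 6, 3] [422, 422]))) (.nd (.lf (.wit [1, 5, 6, 3] [422, 422])) (.lf (.wit [1, 5, 6, 3] [422, 422])))) (.nd (.nd (.lf (.wit [1, 3, 5, 0, 1] [422, 422])) (.lf (.wit [1, 3, 5, 0, 1] [422, 422]))) (.nd (.lf (.wit [1, 5, 6, 3] [422, 422])) (.lf (.wit [1, 3, 5, 0, 1] [422, 422]))))) (.nd (.nd (.nd (.lf (.wit [1, 5, 6, 3] [422, 422])) (.lf (.wit [1, 3, 5, 0, 1] [422, 422]))) (.nd (.lf (.wit [1, 5, 6, 3] [422, 422])) (.lf (.wit [1, 5, 6, 3] [422, 422])))) (.nd (.nd (.lf (.wit [1, 3, 5, 0, 1] [422, 422])) (.lf (.wit [1, 3, 5, 0, 1] [422, 422]))) (.nd (.lf (.wit [1, 3, 5, 0, 1] [422, 422])) (.lf (.wit [1, 5,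 6, 3] [422, 422])))))) (.nd (.nd (.nd (.nd (.lf (.wit [1, 5, 6, 3] [422, 422])) (.lf (.wit [1, 5, 6, 3] [422, 422]))) (.nd (.lf (.wit [1, 5, 6, 3] [422, 422])) (.lf (.wit [1, 5, 6, 3] [422, 422])))) (.nd (.nd (.lf (.wit [1, 3, 5, 0, 1] [422, 422])) (.lf (.wit [1, 3, 5, 0, 1] [422, 422]))) (.nd (.lf (.wit [1, 3, 5, 0, 1] [422, 439])) (.lf (.wit [1, 5, 6, 3] [422, 422]))))) (.nd (.nd (.nd (.lf (.wit [1, 5, 6, 3] [422, 422])) (.lf (.wit [1, 3, 5, 0, 1] [422, 422]))) (.nd (.lf (.wit [1, 5, 6, 3] [422, 422])) (.lf (.wit [1, 5, 6, 3] [422, 422])))) (.nd (.nd (.lf (.wit [1, 3, 5, 0, 1] [422, 439])) (.lf (.wit [1, 5, 6, 3] [422, 422]))) (.nd (.lf (.wit [1, 3, 5, 0, 1] [422, 422])) (.lf (.wit [1, 5, 6, 3] [422, 422])))))))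

theorem k9 : chkCand DD ap iv bsL 4 693 [2, 3] cd9 9 = true := by decide +kernel

/-- The candidates of a coset. -/
def cd10 : CT :=
  (.nd (.nd (.nd (.nd (.nd (.lf (.wit [1, 5, 6, 3] [422, 422])) (.lf (.wit [1, 5, 6, 3] [422, 422]))) (.nd (.lf (.wit [1, 3, 5, 0, 1] [422, 422])) (.lf (.wit [1, 3, 5, 0, 1] [422, 422])))) (.nd (.nd (.lf (.wit [1, 3, 5, 0, 1] [422, 422])) (.lf (.wit [1, 5, 6, 3] [422, 422]))) (.nd (.lf (.wit [1, 5, 6, 3] [422, 439])) (.lf (.wit [1, 5, 6, 3] [422, 422]))))) (.nd (.nd (.nd (.lf (.wit [1, 5, 6, 3] [422, 422])) (.lf (.wit [1, 5, 6, 3] [422, 422]))) (.nd (.lf (.wit [1, 3, 5, 0, 1] [422, 422])) (.lf (.wit [1, 3, 5, 0, 1] [422, 422])))) (.nd (.nd (.lf (.wit [1, 5, 6, 3] [422, 422])) (.lf (.wit [1, 3, 5, 0, 1] [422, 422]))) (.nd (.lf (.wit [1, 5, 6, 3] [422, 422])) (.lf (.wit [1, 5,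 6, 3] [422, 422])))))) (.nd (.nd (.nd (.nd (.lf (.wit [1, 5, 6, 3] [422, 422])) (.lf (.wit [1, 5, 6, 3] [422, 422]))) (.nd (.lf (.wit [1, 3, 5, 0, 1] [422, 422])) (.lf (.wit [1, 3, 5, 0, 1] [422, 422])))) (.nd (.nd (.lf (.wit [1, 5, 6, 3] [422, 422])) (.lf (.wit [1, 5, 6, 3] [422, 422]))) (.nd (.lf (.wit [1, 5, 6, 3] [422, 422])) (.lf (.wit [1, 5, 6, 3] [422, 422]))))) (.nd (.nd (.nd (.lf (.wit [1, 5, 6, 3] [422, 422])) (.lf (.wit [1, 5, 6, 3] [422, 422]))) (.nd (.lf (.wit [1, 3, 5, 0, 1] [422, 422])) (.lf (.wit [1, 3, 5, 0, 1] [422, 422])))) (.nd (.nd (.lf (.wit [1, 5, 6, 3] [422, 422])) (.lf (.wit [1, 3, 5, 0, 1] [422, 422]))) (.nd (.lf (.wit [1, 5, 6, 3] [422, 422])) (.lf (.wit [1, 5, 6, 3] [422, 422])))))))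

theorem k10 : chkCand DD ap iv bsL 4 693 [2, 3] cd10 10 = true := by decide +kernel

/-- The candidates of a coset. -/
def cd11 : CT :=
  (.nd (.nd (.nd (.nd (.nd (.lf (.wit [1, 3, 5, 0, 1] [422, 422])) (.lf (.wit [1, 3, 5, 0, 1] [422, 422]))) (.nd (.lf (.wit [1, 5, 6, 3] [422, 422])) (.lf (.wit [1, 5, 6, 3] [422, 422])))) (.nd (.nd (.lf (.wit [1, 5, 6, 3] [422, 422])) (.lf (.wit [1, 5, 6, 3] [422, 422]))) (.nd (.lf (.wit [1, 3, 5, 0, 1] [422, 422])) (.lf (.wit [1, 3, 5, 0, 1] [422, 422]))))) (.nd (.nd (.nd (.lf (.wit [1, 3, 5, 0, 1] [422, 422])) (.lf (.wit [1, 5, 6, 3] [422, 422]))) (.nd (.lf (.wit [1, 3, 5, 0, 1] [422, 422])) (.lf (.wit [1, 5, 6, 3] [422, 422])))) (.nd (.nd (.lf (.wit [1, 5, 6, 3] [422, 422])) (.lf (.wit [1, 5, 6, 3] [422, 422]))) (.nd (.lf (.wit [1, 3, 5, 0, 1] [422, 422])) (.lf (.wit [1,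 5, 6, 3] [422, 422])))))) (.nd (.nd (.nd (.nd (.lf (.wit [1, 3, 5, 0, 1] [422, 422])) (.lf (.wit [1, 3, 5, 0, 1] [422, 422]))) (.nd (.lf (.wit [1, 3, 5, 0, 1] [422, 422])) (.lf (.wit [1, 5, 6, 3] [422, 422])))) (.nd (.nd (.lf (.wit [1, 5, 6, 3] [422, 422])) (.lf (.wit [1, 5, 6, 3] [422, 422]))) (.nd (.lf (.wit [1, 3, 5, 0, 1] [422, 422])) (.lf (.wit [1, 3, 5, 0, 1] [422, 422]))))) (.nd (.nd (.nd (.lf (.wit [1, 3, 5, 0, 1] [422, 422])) (.lf (.wit [1, 5, 6, 3] [422, 422]))) (.nd (.lf (.wit [1, 5, 6, 3] [422, 422])) (.lf (.wit [1, 5, 6, 3] [422, 422])))) (.nd (.nd (.lf (.wit [1, 5, 6, 3] [422, 422])) (.lf (.wit [1, 3, 5, 0, 1] [422, 422]))) (.nd (.lf (.wit [1, 3, 5, 0, 1] [422, 422])) (.lf (.wit [1, 5, 6, 3] [422, 422])))))))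

theorem k11 : chkCand DD ap iv bsL 4 693 [2, 3] cd11 11 = true := by decide +kernel

/-- The candidates of a coset. -/
def cd12 : CT :=
  (.nd (.nd (.nd (.nd (.nd (.nd (.nd (.nd (.lf (.wit [1, 5, 6, 3] [422, 422])) (.lf (.wit [1, 5, 6, 3] [422, 422]))) .nil) .nil) (.nd (.nd (.nd (.lf (.wit [1, 5, 6, 3] [422, 422])) (.lf (.wit [1, 5, 6, 3] [422, 422]))) .nil) .nil)) (.nd (.nd .nil (.nd (.nd (.lf (.wit [1, 5, 6, 3] [422, 422])) (.lf (.wit [1, 5, 6, 3] [422, 422]))) .nil)) (.nd .nil (.nd (.nd (.lf (.wit [1, 3, 5, 0, 1] [422, 422])) (.lf (.wit [1, 5, 6, 3] [422, 422]))) .nil)))) .nil) (.nd (.nd (.nd (.nd (.nd (.nd (.lf (.wit [1, 5, 6, 3] [422, 422])) (.lf (.wit [1, 5, 6, 3] [422, 422]))) .nil) .nil) (.nd (.nd (.nd (.lf (.wit [1, 5, 6, 3] [422, 422])) (.lf (.wit [1, 5, 6, 3] [422, 422]))) .nil) .nil)) (.nd (.nd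 .nil (.nd (.nd (.lf (.wit [1, 3, 5, 0, 1] [422, 422])) (.lf (.wit [1, 5, 6, 3] [422, 422]))) .nil)) (.nd .nil (.nd (.nd (.lf (.wit [1, 3, 5, 0, 1] [422, 422])) (.lf (.wit [1, 5, 6, 3] [422, 422]))) .nil)))) .nil)) (.nd (.nd (.nd (.nd (.nd (.nd (.nd (.lf (.wit [1, 5, 6, 3] [422, 422])) (.lf (.wit [1, 5, 6, 3] [422, 422]))) .nil) .nil) (.nd (.nd (.nd (.lf (.wit [1, 5, 6, 3] [422, 422])) (.lf (.wit [1, 5, 6, 3] [422, 422]))) .nil) .nil)) (.nd (.nd .nil (.nd (.nd (.lf (.wit [1, 5, 6, 3] [422, 422])) (.lf (.wit [1, 5, 6, 3] [422, 422]))) .nil)) (.nd .nil (.nd (.nd (.lf (.wit [1, 3, 5, 0, 1] [422, 422])) (.lf (.wit [1, 5, 6, 3] [422, 422]))) .nil)))) .nil) (.nd (.nd (.nd (.nd (.nd (.nd (.lf (.wit [1, 5, 6, 3] [422, 422])) (.lf (.wit [1, 5, 6, 3] [422, 422]))) .nil) .nil) (.nd (.nd (.nd (.lf (.wit [1, 5, 6, 3] [422,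 422])) (.lf (.wit [1, 5, 6, 3] [422, 422]))) .nil) .nil)) (.nd (.nd .nil (.nd (.nd (.lf (.wit [1, 3, 5, 0, 1] [422, 422])) (.lf (.wit [1, 5, 6, 3] [422, 422]))) .nil)) (.nd .nil (.nd (.nd (.lf (.wit [1, 5, 6, 3] [422, 422])) (.lf (.wit [1, 5, 6, 3] [422, 422]))) .nil)))) .nil)))

theorem k12 : chkCand DD ap iv bsL 4 693 [2, 3] cd12 12 = true := by decide +kernel

/-- The candidates of a coset. -/
def cd13 : CT :=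
  (.nd (.nd (.nd (.nd (.nd (.nd (.lf (.wit [1, 5, 6, 3] [422, 422])) (.lf (.wit [1, 5, 6, 3] [422, 422]))) (.nd (.lf (.wit [1, 5, 6, 3] [422, 422])) (.lf (.wit [1, 5, 6, 3] [422, 422])))) (.nd (.nd (.lf (.wit [1, 5, 6, 3] [422, 422])) (.lf (.wit [1, 5, 6, 3] [422, 422]))) (.nd (.lf (.wit [1, 3, 5, 0, 1] [422, 422])) (.lf (.wit [1, 5, 6, 3] [422, 422]))))) .nil) (.nd (.nd (.nd (.nd (.lf (.wit [1, 5, 6, 3] [422, 422])) (.lf (.wit [1, 5, 6, 3] [422, 422]))) (.nd (.lf (.wit [1, 5, 6, 3] [422, 422])) (.lf (.wit [1, 5, 6, 3] [422, 422])))) (.nd (.nd (.lf (.wit [1, 5, 6, 3] [422, 422])) (.lf (.wit [1, 5, 6, 3] [422, 422]))) (.nd (.lf (.wit [1, 5, 6, 3] [422, 422])) (.lf (.wit [1, 5, 6, 3] [422, 422]))))) .nil)) (.nd (.nd (.nd (.nd (.nd (.lf (.wit [1, 5, 6, 3] [422, 422])) (.lf (.wit [1, 5, 6, 3] [422, 422]))) (.nd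 (.lf (.wit [1, 5, 6, 3] [422, 422])) (.lf (.wit [1, 5, 6, 3] [422, 422])))) (.nd (.nd (.lf (.wit [1, 5, 6, 3] [422, 422])) (.lf (.wit [1, 5, 6, 3] [422, 422]))) (.nd (.lf (.wit [1, 5, 6, 3] [422, 422])) (.lf (.wit [1, 5, 6, 3] [422, 422]))))) .nil) (.nd (.nd (.nd (.nd (.lf (.wit [1, 5, 6, 3] [422, 422])) (.lf (.wit [1, 5, 6, 3] [422, 422]))) (.nd (.lf (.wit [1, 5, 6, 3] [422, 422])) (.lf (.wit [1, 5, 6, 3] [422, 422])))) (.nd (.nd (.lf (.wit [1, 3, 5, 0, 1] [422, 422])) (.lf (.wit [1, 5, 6, 3] [422, 422]))) (.nd (.lf (.wit [1, 5, 6, 3] [422, 422])) (.lf (.wit [1, 5, 6, 3] [422, 422]))))) .nil)))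

theorem k13 : chkCand DD ap iv bsL 4 693 [2, 3] cd13 13 = true := by decide +kernel

/-- The candidates of a coset. -/
def cd14 : CT :=
  (.nd (.nd (.nd (.nd (.nd (.nd (.lf (.wit [1, 5, 6, 3] [422, 422])) (.lf (.wit [1, 5, 6, 3] [422, 422]))) (.nd (.lf (.wit [1, 5, 6, 3] [422, 422])) (.lf (.wit [1, 3, 5, 0, 1] [422, 422])))) (.nd (.nd (.lf (.wit [1, 5, 6, 3] [422, 422])) (.lf (.wit [1, 5, 6, 3] [422, 422]))) (.nd (.lf (.wit [1, 5, 6, 3] [422, 422])) (.lf (.wit [1, 5, 6, 3] [422, 422]))))) .nil) (.nd (.nd (.nd (.nd (.lf (.wit [1, 5, 6, 3] [422, 422])) (.lf (.wit [1, 5, 6, 3] [422, 422]))) (.nd (.lf (.wit [1, 5, 6, 3] [422, 422])) (.lf (.wit [1, 3, 5, 0, 1] [422, 422])))) (.nd (.nd (.lf (.wit [1, 5, 6, 3] [422, 422])) (.lf (.wit [1, 5, 6, 3] [422, 422]))) (.nd (.lf (.wit [1, 5, 6, 3] [422, 422])) (.lf (.wit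 [1, 5, 6, 3] [422, 422]))))) .nil)) (.nd (.nd (.nd (.nd (.nd (.lf (.wit [1, 5, 6, 3] [422, 422])) (.lf (.wit [1, 5, 6, 3] [422, 422]))) (.nd (.lf (.wit [1, 5, 6, 3] [422, 422])) (.lf (.wit [1, 3, 5, 0, 1] [422, 422])))) (.nd (.nd (.lf (.wit [1, 5, 6, 3] [422, 422])) (.lf (.wit [1, 5, 6, 3] [422, 422]))) (.nd (.lf (.wit [1, 5, 6, 3] [422, 422])) (.lf (.wit [1, 5, 6, 3] [422, 422]))))) .nil) (.nd (.nd (.nd (.nd (.lf (.wit [1, 5, 6, 3] [422, 422])) (.lf (.wit [1, 5, 6, 3] [422, 422]))) (.nd (.lf (.wit [1, 5, 6, 3] [422, 422])) (.lf (.wit [1, 3, 5, 0, 1] [422, 422])))) (.nd (.nd (.lf (.wit [1, 5, 6, 3] [422, 422])) (.lf (.wit [1, 5, 6, 3] [422, 422]))) (.nd (.lf (.wit [1, 5, 6, 3] [422, 422])) (.lf (.wit [1, 5, 6, 3] [422, 422]))))) .nil)))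

theorem k14 : chkCand DD ap iv bsL 4 693 [2, 3] cd14 14 = true := by decide +kernel

/-- The candidates of a coset. -/
def cd15 : CT :=
  (.nd (.nd (.nd (.nd (.nd (.nd (.nd (.lf (.wit [1, 3, 5, 0, 1] [422, 422])) (.lf (.wit [1, 3, 5, 0, 1] [422, 422]))) .nil) (.nd (.nd (.lf (.wit [1, 3, 5, 0, 1] [422, 422])) (.lf (.wit [1, 3, 5, 0, 1] [422, 422]))) .nil)) (.nd (.nd .nil (.nd (.lf (.wit [1, 3, 5, 0, 1] [422, 422])) (.lf (.wit [1, 3, 5, 0, 1] [422, 422])))) (.nd .nil (.nd (.lf (.wit [1, 3, 5, 0, 1] [422, 422])) (.lf (.wit [1, 3, 5, 0, 1] [422, 422])))))) .nil) (.nd (.nd (.nd (.nd (.nd (.lf (.wit [1, 3, 5, 0, 1] [422, 422])) (.lf (.wit [1, 3, 5, 0, 1] [422, 422]))) .nil) (.nd (.nd (.lf (.wit [1, 3, 5, 0, 1] [422, 422])) (.lf (.wit [1, 3, 5, 0, 1] [422, 422]))) .nil)) (.nd (.nd .nil (.nd (.lf (.wit [1, 3, 5, 0,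 1] [422, 422])) (.lf (.wit [1, 3, 5, 0, 1] [422, 422])))) (.nd .nil (.nd (.lf (.wit [1, 3, 5, 0, 1] [422, 422])) (.lf (.wit [1, 3, 5, 0, 1] [422, 422])))))) .nil)) (.nd (.nd (.nd (.nd (.nd (.nd (.lf (.wit [1, 3, 5, 0, 1] [422, 422])) (.lf (.wit [1, 3, 5, 0, 1] [422, 422]))) .nil) (.nd (.nd (.lf (.wit [1, 3, 5, 0, 1] [422, 422])) (.lf (.wit [1, 3, 5, 0, 1] [422, 422]))) .nil)) (.nd (.nd .nil (.nd (.lf (.wit [1, 3, 5, 0, 1] [422, 422])) (.lf (.wit [1, 3, 5, 0, 1] [422, 422])))) (.nd .nil (.nd (.lf (.wit [1, 3, 5, 0, 1] [422, 422])) (.lf (.wit [1, 3, 5, 0, 1] [422, 422])))))) .nil) (.nd (.nd (.nd (.nd (.nd (.lf (.wit [1, 3, 5, 0, 1] [422, 422])) (.lf (.wit [1, 3, 5, 0, 1] [422, 422]))) .nil) (.nd (.nd (.lf (.wit [1, 3, 5, 0, 1] [422, 422])) (.lf (.wit [1, 3, 5, 0, 1] [422, 422]))) .nil)) (.nd (.nd .nil (.nd (.lf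 (.wit [1, 3, 5, 0, 1] [422, 422])) (.lf (.wit [1, 3, 5, 0, 1] [422, 422])))) (.nd .nil (.nd (.lf (.wit [1, 3, 5, 0, 1] [422, 422])) (.lf (.wit [1, 3, 5, 0, 1] [422, 422])))))) .nil)))

theorem k15 : chkCand DD ap iv bsL 4 693 [2, 3] cd15 15 = true := by decide +kernel

/-- The candidates of a coset. -/
def cd16 : CT :=
  (.nd (.nd (.nd (.nd (.nd (.nd (.lf (.wit [1, 5, 6, 3] [422, 422])) (.lf (.wit [1, 3, 5, 0, 1] [422, 439]))) .nil) (.nd (.nd (.lf (.wit [1, 5, 6, 3] [422, 422])) (.lf (.wit [3, 5, 2] [422, 422]))) .nil)) (.nd (.nd (.nd (.lf (.wit [3, 7, 6] [422, 422])) (.lf (.wit [1, 3, 5, 0, 1] [439, 422]))) .nil) (.nd (.nd (.lf (.wit [1, 5, 6, 3] [422, 422])) (.lf (.wit [3, 5, 2] [422, 422]))) .nil))) (.nd (.nd (.nd .nil (.nd (.lf (.wit [1, 5, 6, 3] [422, 422])) (.lf (.wit [1, 5, 6, 3] [422, 422])))) (.nd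 .nil (.nd (.lf (.wit [1, 5, 6, 3] [422, 422])) (.lf (.wit [3, 5, 2] [422, 439]))))) (.nd (.nd .nil (.nd (.lf (.wit [1, 3, 5, 0, 1] [439, 422])) (.lf (.wit [1, 5, 6, 3] [422, 422])))) (.nd .nil (.nd (.lf (.wit [3, 5, 2] [422, 422])) (.lf (.wit [3, 5, 2] [439, 422]))))))) (.nd (.nd (.nd (.nd (.nd (.lf (.wit [1, 5, 6, 3] [422, 422])) (.lf (.wit [1, 3, 5, 0, 1] [439, 422]))) .nil) (.nd (.nd (.lf (.wit [1, 5, 6, 3] [422, 422])) (.lf (.wit [3, 5, 2] [422, 422]))) .nil)) (.nd (.nd (.nd (.lf (.wit [3, 7, 6] [422, 422])) (.lf (.wit [1, 3, 5, 0, 1] [422, 439]))) .nil) (.nd (.nd (.lf (.wit [1, 5, 6, 3] [422, 422])) (.lf (.wit [3, 5, 2] [422, 422]))) .nil))) (.nd (.nd (.nd .nil (.nd (.lf (.wit [1, 3, 5, 0, 1] [439, 422])) (.lf (.wit [1, 5, 6, 3] [422, 422])))) (.nd .nil (.nd (.lf (.wit [3, 5, 2] [422, 422])) (.lf (.wit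 [3, 5, 2] [439, 422]))))) (.nd (.nd .nil (.nd (.lf (.wit [1, 3, 5, 0, 1] [422, 439])) (.lf (.wit [1, 5, 6, 3] [422, 422])))) (.nd .nil (.nd (.lf (.wit [3, 5, 2] [422, 422])) (.lf (.wit [3, 5, 2] [422, 439]))))))))

theorem k16 : chkCand DD ap iv bsL 4 693 [2, 3] cd16 16 = true := by decide +kernel

/-- The candidates of a coset. -/
def cd17 : CT :=
  (.nd (.nd (.nd (.nd (.nd (.nd (.nd (.nd (.lf (.wit [1, 5, 6, 3] [422, 422])) (.lf (.wit [7, 5, 3] [422, 422]))) (.nd (.lf (.wit [7, 5, 3] [422, 422])) (.lf (.wit [7, 5, 3] [422, 422])))) .nil) .nil) (.nd (.nd (.nd (.nd (.lf (.wit [1, 5, 6, 3] [422, 422])) (.lf (.wit [7, 5, 3] [422, 422]))) (.nd (.lf (.wit [7, 5, 3] [422, 422])) (.lf (.wit [7, 5, 3] [422, 422])))) .nil) .nil)) .nil) (.nd (.nd (.nd .nil (.nd (.nd (.nd (.lf (.wit [7, 5, 3] [422, 422])) (.lf (.wit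 [7, 5, 3] [422, 422]))) (.nd (.lf (.wit [7, 5, 3] [422, 422])) (.lf (.wit [7, 5, 3] [422, 422])))) .nil)) (.nd .nil (.nd (.nd (.nd (.lf (.wit [7, 5, 3] [422, 422])) (.lf (.wit [7, 5, 3] [422, 422]))) (.nd (.lf (.wit [7, 5, 3] [422, 422])) (.lf (.wit [7, 5, 3] [422, 422])))) .nil))) .nil)) (.nd (.nd (.nd (.nd (.nd (.nd (.nd (.lf (.wit [1, 5, 6, 3] [422, 422])) (.lf (.wit [7, 5, 3] [422, 422]))) (.nd (.lf (.wit [7, 5, 3] [422, 422])) (.lf (.wit [7, 5, 3] [422, 422])))) .nil) .nil) (.nd (.nd (.nd (.nd (.lf (.wit [1, 3, 5, 0, 1] [422, 422])) (.lf (.wit [7, 5, 3] [422, 422]))) (.nd (.lf (.wit [7, 5, 3] [422, 422])) (.lf (.wit [7, 5, 3] [422, 422])))) .nil) .nil)) .nil) (.nd (.nd (.nd .nil (.nd (.nd (.nd (.lf (.wit [7, 5, 3] [422, 422])) (.lf (.wit [7, 5, 3] [422, 422]))) (.nd (.lf (.wit [7, 5, 3] [422, 422])) (.lf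 (.wit [7, 5, 3] [422, 422])))) .nil)) (.nd .nil (.nd (.nd (.nd (.lf (.wit [7, 5, 3] [422, 422])) (.lf (.wit [7, 5, 3] [422, 422]))) (.nd (.lf (.wit [7, 5, 3] [422, 422])) (.lf (.wit [7, 5, 3] [422, 422])))) .nil))) .nil)))

theorem k17 : chkCand DD ap iv bsL 4 693 [2, 3] cd17 17 = true := by decide +kernel

/-- The candidates of a coset. -/
def cd18 : CT :=
  (.nd (.nd (.nd (.nd .nil (.nd (.nd (.nd (.nd .nil (.nd (.lf (.wit [7, 5, 3] [422, 422])) (.lf (.wit [7, 5, 3] [422, 422])))) (.nd .nil (.nd (.lf (.wit [7, 5, 3] [422, 422])) (.lf (.wit [7, 5, 3] [422, 422]))))) (.nd (.nd .nil (.nd (.lf (.wit [7, 5, 3] [422, 422])) (.lf (.wit [7, 5, 3] [439, 422])))) (.nd .nil (.nd (.lf (.wit [7, 5, 3] [422, 422])) (.lf (.wit [7, 5, 3] [439, 422])))))) .nil)) .nil) (.nd (.nd .nil (.nd .nil (.nd (.nd (.nd .nil (.nd (.lf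 (.wit [7, 5, 3] [422, 422])) (.lf (.wit [7, 5, 3] [422, 422])))) (.nd .nil (.nd (.lf (.wit [7, 5, 3] [422, 422])) (.lf (.wit [7, 5, 3] [422, 422]))))) (.nd (.nd .nil (.nd (.lf (.wit [7, 5, 3] [422, 422])) (.lf (.wit [7, 5, 3] [422, 422])))) (.nd .nil (.nd (.lf (.wit [7, 5, 3] [422, 422])) (.lf (.wit [7, 5, 3] [422, 422])))))))) .nil)) (.nd (.nd (.nd .nil (.nd (.nd (.nd (.nd .nil (.nd (.lf (.wit [7, 5, 3] [422, 422])) (.lf (.wit [7, 5, 3] [422, 422])))) (.nd .nil (.nd (.lf (.wit [7, 5, 3] [422, 422])) (.lf (.wit [7, 5, 3] [422, 422]))))) (.nd (.nd .nil (.nd (.lf (.wit [7, 5, 3] [422, 422])) (.lf (.wit [7, 5, 3] [422, 422])))) (.nd .nil (.nd (.lf (.wit [7, 5, 3] [422, 422])) (.lf (.wit [7, 5, 3] [422, 422])))))) .nil)) .nil) (.nd (.nd .nil (.nd .nil (.nd (.nd (.nd .nil (.nd (.lf (.wit [7, 5, 3] [422, 422])) (.lf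 (.wit [7, 5, 3] [439, 422])))) (.nd .nil (.nd (.lf (.wit [7, 5, 3] [422, 422])) (.lf (.wit [7, 5, 3] [439, 422]))))) (.nd (.nd .nil (.nd (.lf (.wit [7, 5, 3] [422, 422])) (.lf (.wit [7, 5, 3] [422, 422])))) (.nd .nil (.nd (.lf (.wit [7, 5, 3] [422, 422])) (.lf (.wit [7, 5, 3] [422, 422])))))))) .nil)))

theorem k18 : chkCand DD ap iv bsL 4 693 [2, 3] cd18 18 = true := by decide +kernel

/-- The candidates of a coset. -/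
def cd19 : CT :=
  (.nd (.nd (.nd (.nd (.nd (.nd (.lf (.wit [7, 5, 3] [422, 422])) (.lf (.wit [7, 5, 3] [422, 439]))) .nil) (.nd (.nd (.lf (.wit [7, 5, 3] [422, 422])) (.lf (.wit [7, 5, 3] [422, 422]))) .nil)) (.nd (.nd .nil (.nd (.lf (.wit [7, 5, 3] [422, 422])) (.lf (.wit [7, 5, 3] [422, 422])))) (.nd .nil (.nd (.lf (.wit [7, 5, 3] [422, 422])) (.lf (.wit [7, 5, 3] [422, 422])))))) (.nd (.nd (.nd .nil (.nd (.lf (.wit [7, 5, 3] [422, 422])) (.lf (.wit [7, 5, 3] [422, 422])))) (.nd .nil (.nd (.lf (.wit [7, 5, 3] [422, 422])) (.lf (.wit [7, 5, 3] [422, 422]))))) (.nd (.nd (.nd (.lf (.wit [7, 5, 3] [422, 439])) (.lf (.wit [7, 5, 3] [422, 422]))) .nil) (.nd (.nd (.lf (.wit [7, 5, 3] [422, 422])) (.lf (.wit [7, 5, 3] [422, 422]))) .nil)))) (.nd (.nd (.nd (.nd (.nd (.lf (.wit [7, 5, 3] [422, 422])) (.lf (.wit [7,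 5, 3] [422, 422]))) .nil) (.nd (.nd (.lf (.wit [7, 5, 3] [422, 439])) (.lf (.wit [7, 5, 3] [422, 422]))) .nil)) (.nd (.nd .nil (.nd (.lf (.wit [7, 5, 3] [422, 422])) (.lf (.wit [7, 5, 3] [422, 422])))) (.nd .nil (.nd (.lf (.wit [7, 5, 3] [422, 422])) (.lf (.wit [7, 5, 3] [422, 422])))))) (.nd (.nd (.nd .nil (.nd (.lf (.wit [7, 5, 3] [422, 422])) (.lf (.wit [7, 5, 3] [422, 422])))) (.nd .nil (.nd (.lf (.wit [7, 5, 3] [422, 422])) (.lf (.wit [7, 5, 3] [422, 422]))))) (.nd (.nd (.nd (.lf (.wit [7, 5, 3] [422, 422])) (.lf (.wit [7, 5, 3] [422, 422]))) .nil) (.nd (.nd (.lf (.wit [7, 5, 3] [422, 422])) (.lf (.wit [7, 5, 3] [422, 439]))) .nil)))))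

theorem k19 : chkCand DD ap iv bsL 4 693 [2, 3] cd19 19 = true := by decide +kernel

/-- The candidates of a coset. -/
def cd32 : CT :=
  (.nd (.nd (.nd (.nd (.nd (.nd (.lf (.wit [1, 5, 6, 3] [422, 422])) (.lf (.wit [3, 5, 2] [422, 422]))) .nil) (.nd (.nd (.lf (.wit [3, 5, 2] [422, 422])) (.lf (.wit [3, 5, 2] [422, 422]))) .nil)) (.nd (.nd (.nd (.lf (.wit [1, 5, 6, 3] [422, 422])) (.lf (.wit [3, 5, 2] [422, 422]))) .nil) (.nd (.nd (.lf (.wit [3, 5, 2] [422, 422])) (.lf (.wit [3, 5, 2] [422, 422]))) .nil))) (.nd (.nd (.nd .nil (.nd (.lf (.wit [3, 5, 2] [422, 422])) (.lf (.wit [1, 5, 6, 3] [422, 422])))) (.nd .nil (.nd (.lf (.wit [3, 5, 2] [422, 422])) (.lf (.wit [3, 5, 2] [422, 422]))))) (.nd (.nd .nil (.nd (.lf (.wit [3, 5, 2] [422, 422])) (.lf (.wit [1, 5, 6, 3] [422, 422])))) (.nd .nil (.nd (.lf (.wit [3,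 5, 2] [422, 422])) (.lf (.wit [3, 5, 2] [422, 422]))))))) (.nd (.nd (.nd (.nd (.nd (.lf (.wit [1, 5, 6, 3] [422, 422])) (.lf (.wit [3, 5, 2] [422, 422]))) .nil) (.nd (.nd (.lf (.wit [3, 5, 2] [422, 422])) (.lf (.wit [3, 5, 2] [422, 422]))) .nil)) (.nd (.nd (.nd (.lf (.wit [1, 5, 6, 3] [422, 422])) (.lf (.wit [3, 5, 2] [422, 422]))) .nil) (.nd (.nd (.lf (.wit [3, 5, 2] [422, 422])) (.lf (.wit [3, 5, 2] [422, 422]))) .nil))) (.nd (.nd (.nd .nil (.nd (.lf (.wit [3, 5, 2] [422, 422])) (.lf (.wit [1, 5, 6, 3] [422, 422])))) (.nd .nil (.nd (.lf (.wit [3, 5, 2] [422, 422])) (.lf (.wit [3, 5, 2] [422, 422]))))) (.nd (.nd .nil (.nd (.lf (.wit [3, 5, 2] [422, 422])) (.lf (.wit [3, 5, 2] [422, 422])))) (.nd .nil (.nd (.lf (.wit [3, 5, 2] [422, 422])) (.lf (.wit [3, 5, 2] [422, 422]))))))))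

theorem k32 : chkCand DD ap iv bsL 4 693 [2, 3] cd32 32 = true := by decide +kernel

/-- The candidates of a coset. -/
def cd33 : CT :=
  (.nd (.nd (.nd (.nd (.nd (.nd (.nd (.nd (.nd (.lf (.wit [3, 5, 2] [422, 422])) (.lf (.wit [3, 5, 2] [422, 422]))) .nil) (.nd (.nd (.lf (.wit [3, 5, 2] [422, 422])) (.lf (.wit [3, 5, 2] [422, 422]))) .nil)) (.nd (.nd (.nd (.lf (.wit [3, 5, 2] [422, 422])) (.lf (.wit [3, 5, 2] [422, 422]))) .nil) (.nd (.nd (.lf (.wit [3, 5, 2] [422, 422])) (.lf (.wit [3, 5, 2] [422, 422]))) .nil))) .nil) .nil) .nil) (.nd (.nd .nil (.nd .nil (.nd (.nd (.nd .nil (.nd (.lf (.wit [3, 5, 2] [422, 422])) (.lf (.wit [3, 5, 2] [422, 422])))) (.nd .nil (.nd (.lf (.wit [3, 5, 2] [422, 422])) (.lf (.wit [3, 5, 2] [422, 422]))))) (.nd (.nd .nil (.nd (.lf (.wit [3, 5, 2] [422, 422])) (.lf (.wit [3, 5,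 2] [422, 422])))) (.nd .nil (.nd (.lf (.wit [3, 5, 2] [422, 422])) (.lf (.wit [3, 5, 2] [422, 422])))))))) .nil)) (.nd (.nd (.nd (.nd (.nd (.nd (.nd (.nd (.lf (.wit [3, 5, 2] [422, 422])) (.lf (.wit [3, 5, 2] [422, 422]))) .nil) (.nd (.nd (.lf (.wit [3, 5, 2] [422, 422])) (.lf (.wit [3, 5, 2] [422, 422]))) .nil)) (.nd (.nd (.nd (.lf (.wit [3, 5, 2] [422, 422])) (.lf (.wit [3, 5, 2] [422, 422]))) .nil) (.nd (.nd (.lf (.wit [3, 5, 2] [422, 422])) (.lf (.wit [3, 5, 2] [422, 422]))) .nil))) .nil) .nil) .nil) (.nd (.nd .nil (.nd .nil (.nd (.nd (.nd .nil (.nd (.lf (.wit [3, 5, 2] [422, 422])) (.lf (.wit [3, 5, 2] [422, 422])))) (.nd .nil (.nd (.lf (.wit [3, 5, 2] [422, 422])) (.lf (.wit [3, 5, 2] [422, 422]))))) (.nd (.nd .nil (.nd (.lf (.wit [3, 5, 2] [422, 422])) (.lf (.wit [3, 5, 2] [422, 422])))) (.nd .nil (.nd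 (.lf (.wit [3, 5, 2] [422, 422])) (.lf (.wit [3, 5, 2] [422, 422])))))))) .nil)))

theorem k33 : chkCand DD ap iv bsL 4 693 [2, 3] cd33 33 = true := by decide +kernel

/-- The candidates of a coset. -/
def cd34 : CT :=
  (.nd (.nd (.nd (.nd (.nd (.nd (.nd (.lf (.wit [7, 5, 3] [422, 422])) (.lf (.wit [7, 5, 3] [422, 422]))) .nil) .nil) (.nd (.nd (.nd (.lf (.wit [7, 5, 3] [422, 422])) (.lf (.wit [7, 5, 3] [422, 422]))) .nil) .nil)) (.nd (.nd .nil (.nd .nil (.nd (.lf (.wit [7, 5, 3] [422, 422])) (.lf (.wit [7, 5, 3] [422, 422]))))) (.nd .nil (.nd .nil (.nd (.lf (.wit [7, 5, 3] [422, 422])) (.lf (.wit [7, 5, 3] [422, 422]))))))) (.nd (.nd (.nd .nil (.nd .nil (.nd (.lf (.wit [7, 5, 3] [422, 439])) (.lf (.wit [7, 5, 3] [422, 422]))))) (.nd .nil (.nd .nil (.nd (.lf (.wit [7, 5, 3] [422, 422])) (.lf (.wit [7, 5, 3]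 [422, 422])))))) (.nd (.nd (.nd (.nd (.lf (.wit [7, 5, 3] [422, 422])) (.lf (.wit [7, 5, 3] [422, 422]))) .nil) .nil) (.nd (.nd (.nd (.lf (.wit [7, 5, 3] [422, 439])) (.lf (.wit [7, 5, 3] [422, 422]))) .nil) .nil)))) (.nd (.nd (.nd (.nd (.nd (.nd (.lf (.wit [7, 5, 3] [422, 422])) (.lf (.wit [7, 5, 3] [422, 439]))) .nil) .nil) (.nd (.nd (.nd (.lf (.wit [7, 5, 3] [422, 422])) (.lf (.wit [7, 5, 3] [422, 422]))) .nil) .nil)) (.nd (.nd .nil (.nd .nil (.nd (.lf (.wit [7, 5, 3] [422, 422])) (.lf (.wit [7, 5, 3] [422, 422]))))) (.nd .nil (.nd .nil (.nd (.lf (.wit [7, 5, 3] [422, 422])) (.lf (.wit [7, 5, 3] [422, 439]))))))) (.nd (.nd (.nd .nil (.nd .nil (.nd (.lf (.wit [7, 5, 3] [422, 422])) (.lf (.wit [7, 5, 3] [422, 422]))))) (.nd .nil (.nd .nil (.nd (.lf (.wit [7, 5, 3] [422, 422])) (.lf (.wit [7, 5, 3] [422, 422]))))))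 (.nd (.nd (.nd (.nd (.lf (.wit [7, 5, 3] [422, 422])) (.lf (.wit [7, 5, 3] [422, 422]))) .nil) .nil) (.nd (.nd (.nd (.lf (.wit [7, 5, 3] [422, 422])) (.lf (.wit [7, 5, 3] [422, 422]))) .nil) .nil)))))

theorem k34 : chkCand DD ap iv bsL 4 693 [2, 3] cd34 34 = true := by decide +kernel

/-- The candidates of a coset. -/
def cd35 : CT :=
  (.nd (.nd (.nd (.nd (.nd (.nd (.nd (.nd (.lf (.wit [7, 5, 3] [422, 422])) (.lf (.wit [7, 5, 3] [422, 422]))) .nil) (.nd .nil (.nd (.lf (.wit [7, 5, 3] [422, 422])) (.lf (.wit [7, 5, 3] [422, 422]))))) .nil) (.nd (.nd (.nd (.nd (.lf (.wit [7, 5, 3] [439, 422])) (.lf (.wit [7, 5, 3] [439, 422]))) .nil) (.nd .nil (.nd (.lf (.wit [7, 5, 3] [422, 422])) (.lf (.wit [7, 5, 3] [422, 422]))))) .nil)) .nil) (.nd (.nd (.nd .nil (.nd (.nd .nil (.nd (.lf (.wit [7, 5, 3] [422, 422])) (.lf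 (.wit [7, 5, 3] [422, 422])))) (.nd (.nd (.lf (.wit [7, 5, 3] [422, 422])) (.lf (.wit [7, 5, 3] [422, 422]))) .nil))) (.nd .nil (.nd (.nd .nil (.nd (.lf (.wit [7, 5, 3] [422, 422])) (.lf (.wit [7, 5, 3] [422, 422])))) (.nd (.nd (.lf (.wit [7, 5, 3] [422, 422])) (.lf (.wit [7, 5, 3] [422, 422]))) .nil)))) .nil)) (.nd (.nd (.nd (.nd (.nd (.nd (.nd (.lf (.wit [7, 5, 3] [422, 422])) (.lf (.wit [7, 5, 3] [422, 422]))) .nil) (.nd .nil (.nd (.lf (.wit [7, 5, 3] [439, 422])) (.lf (.wit [7, 5, 3] [439, 422]))))) .nil) (.nd (.nd (.nd (.nd (.lf (.wit [7, 5, 3] [422, 422])) (.lf (.wit [7, 5, 3] [422, 422]))) .nil) (.nd .nil (.nd (.lf (.wit [7, 5, 3] [422, 422])) (.lf (.wit [7, 5, 3] [422, 422]))))) .nil)) .nil) (.nd (.nd (.nd .nil (.nd (.nd .nil (.nd (.lf (.wit [7, 5, 3] [422, 422])) (.lf (.wit [7, 5, 3] [422, 422]))))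 (.nd (.nd (.lf (.wit [7, 5, 3] [422, 422])) (.lf (.wit [7, 5, 3] [422, 422]))) .nil))) (.nd .nil (.nd (.nd .nil (.nd (.lf (.wit [7, 5, 3] [422, 422])) (.lf (.wit [7, 5, 3] [422, 422])))) (.nd (.nd (.lf (.wit [7, 5, 3] [422, 422])) (.lf (.wit [7, 5, 3] [422, 422]))) .nil)))) .nil)))

theorem k35 : chkCand DD ap iv bsL 4 693 [2, 3] cd35 35 = true := by decide +kernel

/-- The candidates of a coset. -/
def cd48 : CT :=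
  (.nd (.nd (.nd (.nd (.nd (.nd (.nd (.lf (.wit [7, 5, 3] [422, 422])) (.lf (.wit [3, 5, 2] [422, 422]))) .nil) .nil) (.nd (.nd .nil (.nd (.lf (.wit [3, 5, 2] [422, 422])) (.lf (.wit [3, 5, 2] [422, 422])))) .nil)) (.nd (.nd (.nd (.nd (.lf (.wit [3, 5, 2] [422, 422])) (.lf (.wit [3, 5, 2] [422, 422]))) .nil) .nil) (.nd (.nd .nil (.nd (.lf (.wit [3, 5, 2] [422, 422])) (.lf (.wit [3, 5, 2] [422, 422])))) .nil))) (.nd (.nd (.nd .nil (.nd .nil (.nd (.lf (.wit [3, 5, 2] [422, 422])) (.lf (.wit [3, 5, 2] [422, 422]))))) (.nd .nil (.nd (.nd (.lf (.wit [3, 5, 2] [422, 422])) (.lf (.wit [3, 5, 2] [422, 422]))) .nil))) (.nd (.nd .nil (.nd .nil (.nd (.lf (.wit [3, 5, 2] [422, 422])) (.lf (.wit [3, 5, 2] [422, 422]))))) (.nd .nil (.nd (.nd (.lf (.wit [3, 5, 2] [422, 422])) (.lf (.wit [3, 5, 2] [422, 422]))) .nil))))) (.nd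 (.nd (.nd (.nd (.nd (.nd (.lf (.wit [3, 5, 2] [422, 422])) (.lf (.wit [3, 5, 2] [422, 422]))) .nil) .nil) (.nd (.nd .nil (.nd (.lf (.wit [3, 5, 2] [422, 422])) (.lf (.wit [3, 5, 2] [422, 422])))) .nil)) (.nd (.nd (.nd (.nd (.lf (.wit [3, 5, 2] [422, 422])) (.lf (.wit [3, 5, 2] [422, 422]))) .nil) .nil) (.nd (.nd .nil (.nd (.lf (.wit [3, 5, 2] [422, 422])) (.lf (.wit [3, 5, 2] [422, 422])))) .nil))) (.nd (.nd (.nd .nil (.nd .nil (.nd (.lf (.wit [3, 5, 2] [422, 422])) (.lf (.wit [3, 5, 2] [422, 422]))))) (.nd .nil (.nd (.nd (.lf (.wit [3, 5, 2] [422, 422])) (.lf (.wit [3, 5, 2] [422, 422]))) .nil))) (.nd (.nd .nil (.nd .nil (.nd (.lf (.wit [3, 5, 2] [422, 422])) (.lf (.wit [3, 5, 2] [422, 422]))))) (.nd .nil (.nd (.nd (.lf (.wit [3, 5, 2] [422, 422])) (.lf (.wit [3, 5, 2] [422, 422]))) .nil))))))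

theorem k48 : chkCand DD ap iv bsL 4 693 [2, 3] cd48 48 = true := by decide +kernel

/-- The candidates of a coset. -/
def cd49 : CT :=
  (.nd (.nd (.nd (.nd (.nd (.nd (.lf (.wit [3, 5, 2] [422, 422])) (.lf (.wit [3, 5, 2] [422, 422]))) .nil) (.nd (.nd (.lf (.wit [3, 5, 2] [422, 422])) (.lf (.wit [3, 5, 2] [422, 422]))) .nil)) (.nd (.nd .nil (.nd (.lf (.wit [3, 5, 2] [422, 422])) (.lf (.wit [3, 5, 2] [422, 422])))) (.nd .nil (.nd (.lf (.wit [3, 5, 2] [422, 422])) (.lf (.wit [3, 5, 2] [422, 422])))))) (.nd (.nd (.nd .nil (.nd (.lf (.wit [3, 5, 2] [422, 422])) (.lf (.wit [3, 5, 2] [422, 422])))) (.nd .nil (.nd (.lf (.wit [3, 5, 2] [422, 422])) (.lf (.wit [3, 5, 2] [422, 422]))))) (.nd (.nd (.nd (.lf (.wit [3, 5, 2] [422, 422])) (.lf (.wit [3, 5, 2] [422, 422]))) .nil) (.nd (.nd (.lf (.wit [3, 5, 2] [422, 422]))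 (.lf (.wit [3, 5, 2] [422, 422]))) .nil)))) (.nd (.nd (.nd (.nd (.nd (.lf (.wit [3, 5, 2] [422, 422])) (.lf (.wit [3, 5, 2] [422, 422]))) .nil) (.nd (.nd (.lf (.wit [3, 5, 2] [422, 422])) (.lf (.wit [3, 5, 2] [422, 422]))) .nil)) (.nd (.nd .nil (.nd (.lf (.wit [3, 5, 2] [422, 422])) (.lf (.wit [3, 5, 2] [422, 422])))) (.nd .nil (.nd (.lf (.wit [3, 5, 2] [422, 422])) (.lf (.wit [3, 5, 2] [422, 422])))))) (.nd (.nd (.nd .nil (.nd (.lf (.wit [3, 5, 2] [422, 422])) (.lf (.wit [3, 5, 2] [422, 422])))) (.nd .nil (.nd (.lf (.wit [3, 5, 2] [422, 422])) (.lf (.wit [3, 5, 2] [422, 422]))))) (.nd (.nd (.nd (.lf (.wit [3, 5, 2] [422, 422])) (.lf (.wit [3, 5, 2] [422, 422]))) .nil) (.nd (.nd (.lf (.wit [3, 5, 2] [422, 422])) (.lf (.wit [3, 5, 2] [422, 422]))) .nil)))))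

theorem k49 : chkCand DD ap iv bsL 4 693 [2, 3] cd49 49 = true := by decide +kernel

/-- The candidates of a coset. -/
def cd50 : CT :=
  (.nd (.nd (.nd (.nd (.nd (.nd (.nd .nil (.nd (.lf (.wit [7, 5, 3] [422, 422])) (.lf (.wit [7, 5, 3] [422, 422])))) (.nd .nil (.nd (.lf (.wit [7, 5, 3] [422, 422])) (.lf (.wit [7, 5, 3] [422, 422]))))) .nil) (.nd (.nd (.nd .nil (.nd (.lf (.wit [7, 5, 3] [422, 422])) (.lf (.wit [7, 5, 3] [422, 422])))) (.nd .nil (.nd (.lf (.wit [7, 5, 3] [422, 422])) (.lf (.wit [7, 5, 3] [422, 422]))))) .nil)) .nil) (.nd (.nd (.nd .nil (.nd (.nd (.nd (.lf (.wit [7, 5, 3] [422, 422])) (.lf (.wit [7, 5, 3] [422, 422]))) .nil) (.nd (.nd (.lf (.wit [7, 5, 3] [422, 422])) (.lf (.wit [7, 5, 3] [422, 422]))) .nil))) (.nd .nil (.nd (.nd (.nd (.lf (.wit [7, 5, 3] [422, 422])) (.lf (.wit [7, 5, 3] [422,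 422]))) .nil) (.nd (.nd (.lf (.wit [7, 5, 3] [422, 422])) (.lf (.wit [7, 5, 3] [422, 422]))) .nil)))) .nil)) (.nd (.nd (.nd (.nd (.nd (.nd .nil (.nd (.lf (.wit [7, 5, 3] [422, 422])) (.lf (.wit [7, 5, 3] [422, 422])))) (.nd .nil (.nd (.lf (.wit [7, 5, 3] [422, 422])) (.lf (.wit [7, 5, 3] [422, 422]))))) .nil) (.nd (.nd (.nd .nil (.nd (.lf (.wit [7, 5, 3] [422, 422])) (.lf (.wit [7, 5, 3] [422, 422])))) (.nd .nil (.nd (.lf (.wit [7, 5, 3] [422, 422])) (.lf (.wit [7, 5, 3] [422, 422]))))) .nil)) .nil) (.nd (.nd (.nd .nil (.nd (.nd (.nd (.lf (.wit [7, 5, 3] [422, 422])) (.lf (.wit [7, 5, 3] [422, 422]))) .nil) (.nd (.nd (.lf (.wit [7, 5, 3] [422, 422])) (.lf (.wit [7, 5, 3] [422, 422]))) .nil))) (.nd .nil (.nd (.nd (.nd (.lf (.wit [7, 5, 3] [422, 422])) (.lf (.wit [7, 5, 3] [422, 422]))) .nil) (.nd (.nd (.lf (.wit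 [7, 5, 3] [422, 422])) (.lf (.wit [7, 5, 3] [422, 422]))) .nil)))) .nil)))

theorem k50 : chkCand DD ap iv bsL 4 693 [2, 3] cd50 50 = true := by decide +kernel

/-- The candidates of a coset. -/
def cd51 : CT :=
  (.nd (.nd .nil (.nd (.nd (.nd .nil (.nd (.nd (.nd (.nd (.lf (.wit [7, 5, 3] [422, 422])) (.lf (.wit [7, 5, 3] [422, 422]))) .nil) (.nd (.nd (.lf (.wit [7, 5, 3] [422, 422])) (.lf (.wit [7, 5, 3] [422, 422]))) .nil)) (.nd (.nd (.nd (.lf (.wit [7, 5, 3] [422, 422])) (.lf (.wit [7, 5, 3] [422, 422]))) .nil) (.nd (.nd (.lf (.wit [7, 5, 3] [422, 422])) (.lf (.wit [7, 5, 3] [422, 422]))) .nil)))) (.nd .nil (.nd (.nd (.nd .nil (.nd (.lf (.wit [7, 5, 3] [422, 422])) (.lf (.wit [7, 5, 3] [422, 422])))) (.nd .nil (.nd (.lf (.wit [7, 5, 3] [422, 422])) (.lf (.wit [7, 5, 3] [422, 422]))))) (.nd (.nd .nil (.nd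 (.lf (.wit [7, 5, 3] [422, 422])) (.lf (.wit [7, 5, 3] [422, 422])))) (.nd .nil (.nd (.lf (.wit [7, 5, 3] [422, 422])) (.lf (.wit [7, 5, 3] [422, 422])))))))) .nil)) (.nd .nil (.nd (.nd (.nd .nil (.nd (.nd (.nd (.nd (.lf (.wit [7, 5, 3] [422, 422])) (.lf (.wit [7, 5, 3] [422, 422]))) .nil) (.nd (.nd (.lf (.wit [7, 5, 3] [422, 422])) (.lf (.wit [7, 5, 3] [422, 422]))) .nil)) (.nd (.nd (.nd (.lf (.wit [7, 5, 3] [422, 422])) (.lf (.wit [7, 5, 3] [422, 422]))) .nil) (.nd (.nd (.lf (.wit [7, 5, 3] [422, 422])) (.lf (.wit [7, 5, 3] [422, 422]))) .nil)))) (.nd .nil (.nd (.nd (.nd .nil (.nd (.lf (.wit [7, 5, 3] [422, 422])) (.lf (.wit [7, 5, 3] [422, 422])))) (.nd .nil (.nd (.lf (.wit [7, 5, 3] [422, 422])) (.lf (.wit [7, 5, 3] [422, 422]))))) (.nd (.nd .nil (.nd (.lf (.wit [7, 5, 3] [422, 422])) (.lf (.wit [7, 5,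 3] [422, 422])))) (.nd .nil (.nd (.lf (.wit [7, 5, 3] [422, 422])) (.lf (.wit [7, 5, 3] [422, 422])))))))) .nil)))

theorem k51 : chkCand DD ap iv bsL 4 693 [2, 3] cd51 51 = true := by decide +kernel

end Cfsg.Agent.TcChain36.Out.U0M22
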