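import Mathlib
import Cfsg.Agent.TcChain36.Out.U0M22.Cd0
import Cfsg.Agent.Lib.TypeM22.SylInv

set_option autoImplicit false
set_option maxRecDepth 1000000
set_option linter.all false

namespace Cfsg.Agent.TcChain36.Out.U0M22

open Cfsg.Agent.Lib.OutTree36

open Cfsg.Agent.TcData.U0M22.I693 Cfsg.Agent.TcData.U0M22 Cfsg.Agent.TcChain36.M22U.U0

/-- The candidates. -/
def cdF (i : ℕ) : CT :=
  (bif Nat.blt i 32 then (bif Nat.blt i 16 then (bif Nat.blt i 8 then (bif Nat.blt i 4 then (bif Nat.blt i 2 then (bif Nat.blt i 1 then cd0 else cd1) else (bif Nat.blt i 3 then cd2 else cd3)) else (bif Nat.blt i 6 then (bif Nat.blt i 5 then cd4 else cd5) else (bif Nat.blt i 7 then cd6 else cd7))) else (bif Nat.blt i 12 then (bif Nat.blt i 10 then (bif Nat.blt i 9 then cd8 else cd9) else (bif Nat.blt i 11 then cd10 else cd11)) else (bif Nat.blt i 14 then (bif Nat.blt i 13 then cd12 else cd13) else (bif Nat.blt i 15 then cd14 else cd15)))) else (bif Nat.blt i 24 then (bif Nat.blt i 20 then (bif Nat.blt i 18 then (bif Nat.blt i 17 then cd16 else cd17)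 else (bif Nat.blt i 19 then cd18 else cd19)) else (bif Nat.blt i 22 then (bif Nat.blt i 21 then .nil else .nil) else (bif Nat.blt i 23 then .nil else .nil))) else (bif Nat.blt i 28 then (bif Nat.blt i 26 then (bif Nat.blt i 25 then .nil else .nil) else (bif Nat.blt i 27 then .nil else .nil)) else (bif Nat.blt i 30 then (bif Nat.blt i 29 then .nil else .nil) else (bif Nat.blt i 31 then .nil else .nil))))) else (bif Nat.blt i 48 then (bif Nat.blt i 40 then (bif Nat.blt i 36 then (bif Nat.blt i 34 then (bif Nat.blt i 33 then cd32 else cd33) else (bif Nat.blt i 35 then cd34 else cd35)) else (bif Nat.blt i 38 then (bif Nat.blt i 37 then .nil else .nil) else (bif Nat.blt i 39 then .nil else .nil))) else (bif Nat.blt i 44 then (bif Nat.blt i 42 then (bif Nat.blt i 41 then .nil else .nil) else (bif Nat.blt i 43 then .nil else .nil)) else (bif Nat.blt i 46 then (bif Nat.blt i 45 then .nil else .nil) else (bif Nat.blt i 47 then .nil else .nil)))) else (bif Nat.blt i 56 then (bif Nat.blt i 52 then (bif Nat.blt i 50 then (bif Nat.blt i 49 then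 cd48 else cd49) else (bif Nat.blt i 51 then cd50 else cd51)) else (bif Nat.blt i 54 then (bif Nat.blt i 53 then .nil else .nil) else (bif Nat.blt i 55 then .nil else .nil))) else (bif Nat.blt i 60 then (bif Nat.blt i 58 then (bif Nat.blt i 57 then .nil else .nil) else (bif Nat.blt i 59 then .nil else .nil)) else (bif Nat.blt i 62 then (bif Nat.blt i 61 then .nil else .nil) else (bif Nat.blt i 63 then .nil else .nil))))))

theorem kz (i : ℕ) (hi : i ∈ ([20, 21, 22, 23, 24, 25, 26, 27, 28, 29, 30, 31, 36, 37, 38, 39, 40, 41, 42, 43, 44, 45, 46, 47, 52, 53, 54, 55, 56, 57, 58, 59, 60, 61, 62, 63] : List ℕ)) : chkCand DD ap iv bsL 4 693 [2, 3] .nil i = true := by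
  revert i
  decide +kernel

theorem hCd : ∀ i, i < DD.N → chkCand DD ap iv bsL 4 693 [2, 3] (cdF i) i = true := by
  intro i hi
  have hi2 : i < 64 := hi
  interval_cases i
  · exact k0
  · exact k1
  · exact k2
  · exact k3
  · exact k4
  · exact k5
  · exact k6
  · exact k7
  · exact k8
  · exact k9
  · exact k10
  · exact k11
  · exact k12
  · exact k13
  · exact k14
  · exact k15
  · exact k16
  · exact k17
  · exact k18
  · exact k19
  · exact kz 20 (by decide)
  · exact kz 21 (by decide)
  · exact kz 22 (by decide)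
  · exact kz 23 (by decide)
  · exact kz 24 (by decide)
  · exact kz 25 (by decide)
  · exact kz 26 (by decide)
  · exact kz 27 (by decide)
  · exact kz 28 (by decide)
  · exact kz 29 (by decide)
  · exact kz 30 (by decide)
  · exact kz 31 (by decide)
  · exact k32
  · exact k33
  · exact k34
  · exact k35
  · exact kz 36 (by decide)
  · exact kz 37 (by decide)
  · exact kz 38 (by decide)
  · exact kz 39 (by decide)
  · exact kz 40 (by decide)
  · exact kz 41 (by decide)
  · exact kz 42 (by decide)
  · exact kz 43 (by decide)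
  · exact kz 44 (by decide)
  · exact kz 45 (by decide)
  · exact kz 46 (by decide)
  · exact kz 47 (by decide)
  · exact k48
  · exact k49
  · exact k50
  · exact k51
  · exact kz 52 (by decide)
  · exact kz 53 (by decide)
  · exact kz 54 (by decide)
  · exact kz 55 (by decide)
  · exact kz 56 (by decide)
  · exact kz 57 (by decide)
  · exact kz 58 (by decide)
  · exact kz 59 (by decide)
  · exact kz 60 (by decide)
  · exact kz 61 (by decide)
  · exact kz 62 (by decide)
  · exact kz 63 (by decide)

theorem he1 {y : Gp} (h1 : y * y = 1) (h2 : y ≠ 1) (hy : PrK [2, 3] y) : IsConj Cfsg.Agent.TcChain36.M22U.U0.zz y := by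
  haveI : Finite Gp := finG
  exact invol_conj36 H hbs hbn hiv DD hiz (q := 280665) (a := 6) rfl
    (by rw [Cfsg.Agent.TcChain36.M22U.U0.cardG]; rfl) (by decide) hS hI hCd h1 h2 hy

end Cfsg.Agent.TcChain36.Out.U0M22
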