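import Mathlib
import Cfsg.Agent.TcChain36.Out.U0M22.Leaf

set_option autoImplicit false
set_option maxRecDepth 1000000
set_option linter.all false

namespace Cfsg.Agent.TcChain36.Out.U0M22

open Cfsg.Agent.Lib.OutTree36

set_option Elab.async false

open Cfsg.Agent.TcData.U0M22.I693 Cfsg.Agent.TcData.U0M22 Cfsg.Agent.TcChain36.M22U.U0
open Cfsg.Agent.Lib.TypeM22 (Pat Good Cl Orb v1 v2 v3 adjB)

/-- All. -/
def UU : ℕ := nat_lit 0x1fffffffffffffffffffffffffffffffffffffffffffffffffffffffffffffffffffffffffffffffffffffffffffffffffffffffffffffffffffffffffffffffffffffffffffffffffffffffffffffffffffffffffffff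

/-- Commuting with `z`. -/
def MF0 : ℕ := nat_lit 0x102600074003c80180000004410233010000b000028024122a200400060000b8282b000000000c2052f5cb8000000080102155daf60000000803011e4fdef800000003cc1dbffc00000331ffff0000c9ff800c7e013011

/-- Not commuting with `z`. -/
def MF1 : ℕ := nat_lit 0xfd9fff8bffc37fe7ffffffbbefdccfeffff4ffffd7fdbedd5dffbfff9ffff47d7d4fffffffff3dfad0a347fffffff7fefdeaa2509fffffff7fcfee1b02107fffffffc33e24003fffffcce0000ffff36007ff381fecfee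

/-- The pattern. -/
def patL : List (List ℕ) := [[], [1], [0, 1], [0, 0, 1], [1, 0, 0, 0], [0, 0, 0, 0, 1], [0, 0, 1, 0, 0, 1]]

/-- The parameters. -/
def PP : TP :=
  { n := 693, m := 7, U := UU, M0 := [MF0, MF1],
    pat := fun k j => (patL.getD k []).getD j 0,
    allowed := [[100, 34, 6, 0, 161, 63, 16], [100, 34, 6, 0, 161, 63, 224], [100, 34, 6, 0, 161, 63, 243], [100, 34, 6, 0, 30, 602, 381], [100, 34, 6, 0, 30, 602, 387], [100, 34, 6, 0, 30, 602, 514], [100, 34, 6, 0, 56, 63, 35], [100, 34, 6, 0, 56, 63, 301], [100, 34, 6, 0, 56, 63, 319]] }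

/-- The certificate. -/
def Ct : Cert :=
  (.node [[0], [1], [2], [3], [4], [5], [6], [7]] 4 (.alt 100 [3, 2, 1, 4, 3, 2] (.node [[3], [4], [6], [7], [2, 5, 1, 5, 2], [5, 1, 0, 1, 5]] 5 (.alt 34 [3, 2, 4, 3] (.node [[4], [6], [7], [3, 2, 5, 1, 5, 2, 3], [2, 5, 1, 5, 2, 6, 5, 1, 0, 1, 5, 6, 2, 5, 1, 5, 2]] 5 (.alt 6 [3, 4] (.node [[6], [7, 3, 2, 5, 1, 5, 2, 3, 7], [4, 3, 2, 5, 1, 5, 2, 3, 4], [3, 2, 5, 1, 5, 2, 3, 6, 7, 2, 5, 1, 5, 2, 6, 5, 1, 0, 1, 5, 6, 2, 5, 1, 5, 2, 7, 6, 3, 2, 5, 1, 5, 2, 3]] 2 (.alt 0 [] (.node [[6], [7, 3, 2, 5, 1, 5, 2, 3, 7, 4, 3, 2, 5, 1, 5, 2, 3, 4, 6, 3, 2, 5, 1, 5, 2, 3, 6, 7, 2, 5, 1, 5, 2, 6, 5, 1, 0, 1, 5, 6, 2, 5, 1, 5, 2, 7, 6, 3, 2, 5, 1, 5, 2, 3, 6, 4, 3, 2, 5, 1, 5, 2, 3, 4, 7, 3, 2, 5, 1, 5, 2, 3, 7]] 2 (.alt 161 [3, 2, 1, 4, 3, 2, 5, 1] (.node [[6, 7, 3, 2, 5, 1, 5, 2, 3, 7, 4, 3, 2, 5, 1, 5, 2, 3,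 4, 6, 3, 2, 5, 1, 5, 2, 3, 6, 7, 2, 5, 1, 5, 2, 6, 5, 1, 0, 1, 5, 6, 2, 5, 1, 5, 2, 7, 6, 3, 2, 5, 1, 5, 2, 3, 6, 4, 3, 2, 5, 1, 5, 2, 3, 4, 7, 3, 2, 5, 1, 5, 2, 3, 7, 6]] 1 (.alt 63 [3, 4, 7, 3, 6, 7] (.node [] 0 (.alt 16 [3, 4, 7, 3] .leaf (.alt 224 [3, 2, 1, 0, 5, 1, 2, 3] .leaf (.alt 243 [3, 2, 1, 0, 4, 5, 1, 2, 7, 3] .leaf .none)))) .none)) (.alt 30 [3, 2, 7, 3, 6, 7] (.node [[6]] 1 (.alt 602 [3, 2, 1, 0, 5, 1, 2, 3, 6, 5, 1, 0, 2, 1, 5] (.node [] 0 (.alt 381 [3, 2, 1, 0, 4, 3, 5, 1, 6, 5] .leaf (.alt 387 [3, 2, 1, 0, 5, 1, 2, 3, 6, 7] .leaf (.alt 514 [3, 2, 1, 0, 7, 3, 2, 1, 6, 7, 3, 2, 4, 3] .leaf .none)))) .none)) (.alt 56 [3, 2, 7, 3, 6, 5, 7] (.node [[7, 3, 2, 5, 1, 5, 2, 3, 7, 4, 3, 2, 5, 1, 5, 2, 3, 4, 6, 3, 2, 5, 1, 5, 2, 3, 6, 7, 2, 5, 1, 5, 2, 6, 5, 1, 0, 1, 5, 6, 2, 5, 1, 5, 2, 7, 6, 3, 2, 5, 1, 5, 2, 3, 6, 4, 3, 2, 5, 1,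 5, 2, 3, 4, 7, 3, 2, 5, 1, 5, 2, 3, 7]] 1 (.alt 63 [3, 4, 7, 3, 6, 7] (.node [] 0 (.alt 35 [3, 4, 7, 3, 6] .leaf (.alt 301 [3, 2, 1, 0, 5, 1, 2, 3, 6] .leaf (.alt 319 [3, 2, 1, 0, 4, 3, 5, 1, 6, 5, 7] .leaf .none)))) .none)) (.alt 217 [3, 2, 1, 0, 4, 3, 2, 1] (.node [[6], [7, 3, 2, 5, 1, 5, 2, 3, 7, 4, 3, 2, 5, 1, 5, 2, 3, 4, 6, 3, 2, 5, 1, 5, 2, 3, 6, 7, 2, 5, 1, 5, 2, 6, 5, 1, 0, 1, 5, 6, 2, 5, 1, 5, 2, 7, 6, 3, 2, 5, 1, 5, 2, 3, 6, 4, 3, 2, 5, 1, 5, 2, 3, 4, 7, 3, 2, 5, 1, 5, 2, 3, 7]] 0 .none) .none))))) .none)) .none)) .none)) .none))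

theorem hC : chk wa PP Ct 0 [] [] = true := by decide +kernel

theorem hM : chkM0 ap 4 PP 10 = true := by decide +kernel

/-- A leaf. -/
def D0 : LD :=
  { us := [[2, 3, 4, 1, 2, 3], [3, 4, 2, 3], [4, 3], [], [1, 5, 2, 3, 4, 1, 2, 3], [7, 6, 3, 7, 4, 3], [3, 7, 4, 3]],
    uc := [1, 2, 3, 4, 0, 1, 2, 3], tC := 3, tO := 5,
    MC := nat_lit 0x8000001000000604e001bc00007ce000cbbc03f802afc02bf07f80bf05f9fc7e3f7df7ffff,
    MO := nat_lit 0x1fffffffffffffffffffffffffffffffffffffffffffffffffffffffffffffffffffffffffffffffffffffffffffffffffff7fffffeffffff9fb1ffe43ffff831fff3443fc07fd503fd40f807f40fa060381c082080000,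
    cands := [([3, 2, 1, 5, 0, 1, 2, 3], 8), ([3, 7, 2, 1, 5, 4, 0, 1, 2, 3], 1000)] }

theorem hD0 : D0.chk = true := by decide +kernel

theorem hl0 : ∀ j : Fin 7, D0.lp j = ([100, 34, 6, 0, 161, 63, 16] : List ℕ).getD j 0 := by decide +kernel

/-- A leaf. -/
def D1 : LD :=
  { us := [[2, 3, 4, 1, 2, 3], [3, 4, 2, 3], [4, 3], [], [1, 5, 2, 3, 4, 1, 2, 3], [7, 6, 3, 7, 4, 3], [3, 2, 1, 5, 0, 1, 2, 3]],
    uc := [], tC := 0, tO := 0, MC := 0, MO := 0, cands := [] }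

theorem hD1 : LD.badChk D1 2 0 = true := by decide +kernel

theorem hl1 : ∀ j : Fin 7, D1.lp j = ([100, 34, 6, 0, 161, 63, 224] : List ℕ).getD j 0 := by decide +kernel

/-- A leaf. -/
def D2 : LD :=
  { us := [[2, 3, 4, 1, 2, 3], [3, 4, 2, 3], [4, 3], [], [1, 5, 2, 3, 4, 1, 2, 3], [7, 6, 3, 7, 4, 3], [3, 7, 2, 1, 5, 4, 0, 1, 2, 3]],
    uc := [1, 2, 3, 4, 0, 1, 2, 3], tC := 3, tO := 5,
    MC := nat_lit 0x400000100000000084040000003000042042410110464597f000208852090458b8f90000008a68001177374c0002dc002fd670003f00fab80381c70208c063,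
    MO := nat_lit 0x1fffffffffffffffffffffffffffffffffffffffffffffffbfffffefffffffff7bfbffffffcffffbdfbdbefeefb9ba680fffdf77adf6fba74706ffffff7597ffee88c8b3fffd23ffd0298fffc0ff0547fc7e38fdf73f9c,
    cands := [([3, 7, 4, 3], 1000), ([3, 2, 1, 5, 0, 1, 2, 3], 40)] }

theorem hD2 : D2.chk = true := by decide +kernel

theorem hl2 : ∀ j : Fin 7, D2.lp j = ([100, 34, 6, 0, 161, 63, 243] : List ℕ).getD j 0 := by decide +kernel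

/-- A leaf. -/
def D3 : LD :=
  { us := [[2, 3, 4, 1, 2, 3], [3, 4, 2, 3], [4, 3], [], [7, 6, 3, 7, 2, 3], [5, 1, 2, 0, 1, 5, 6, 3, 2, 1, 5, 0, 1, 2, 3], [5, 6, 1, 5, 3, 4, 0, 1, 2, 3]],
    uc := [1, 2, 3, 4, 0, 1, 2, 3], tC := 3, tO := 5,
    MC := nat_lit 0x2000000004000021c40005200a004010003500800058010014024003600406040000201460218041001000400480440090120004008240052ca408286081048108b150802988025626811a002c6492454a28c063,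
    MO := nat_lit 0x1fffffdffffffffbffffde3bfffadff5ffbfefffcaff7fffa7feffebfdbffc9ffbf9fbffffdfeb9fde7fbeffefffbffb7fbbff6fedfffbff7dbffad35bf7d79f7efb7ef74eaf7fd677fda9d97ee5ffd39b6dbab5d73f9c,
    cands := [([7, 6, 3, 2, 1, 5, 0, 1, 2, 3], 1000), ([3, 4, 2, 3, 7, 6, 1, 2, 3, 7, 0, 1, 2, 3], 519)] }

theorem hD3 : D3.chk = true := by decide +kernel

theorem hl3 : ∀ j : Fin 7, D3.lp j = ([100, 34, 6, 0, 30, 602, 381] : List ℕ).getD j 0 := by decide +kernel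

/-- A leaf. -/
def D4 : LD :=
  { us := [[2, 3, 4, 1, 2, 3], [3, 4, 2, 3], [4, 3], [], [7, 6, 3, 7, 2, 3], [5, 1, 2, 0, 1, 5, 6, 3, 2, 1, 5, 0, 1, 2, 3], [7, 6, 3, 2, 1, 5, 0, 1, 2, 3]],
    uc := [1, 2, 3, 4, 0, 1, 2, 3], tC := 3, tO := 5,
    MC := nat_lit 0x100200096280900034080058111703602200007800060884680c0220081801110105c00800001080800000002800008002200000000d00e0003a0000042001023400e800024240b04d0b0528195188c74208c063,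
    MO := nat_lit 0x1fffffeffdfff69d7f6fffcbf7ffa7eee8fc9fddffff87fff9f77b97f3fddff7e7feeefefa3ff7ffffef7f7fffffffd7ffff7ffddffffffff2ff1fffc5fffffbdffefdcbff17fffdbdbf4fb2f4fad7e6ae7738bdf73f9c,
    cands := [([5, 6, 1, 5, 3, 4, 0, 1, 2, 3], 1000), ([3, 4, 2, 3, 7, 6, 1, 2, 3, 7, 0, 1, 2, 3], 515)] }

theorem hD4 : D4.chk = true := by decide +kernel

theorem hl4 : ∀ j : Fin 7, D4.lp j = ([100, 34, 6, 0, 30, 602, 387] : List ℕ).getD j 0 := by decide +kernel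

/-- A leaf. -/
def D5 : LD :=
  { us := [[2, 3, 4, 1, 2, 3], [3, 4, 2, 3], [4, 3], [], [7, 6, 3, 7, 2, 3], [5, 1, 2, 0, 1, 5, 6, 3, 2, 1, 5, 0, 1, 2, 3], [3, 4, 2, 3, 7, 6, 1, 2, 3, 7, 0, 1, 2, 3]],
    uc := [], tC := 0, tO := 0, MC := 0, MO := 0, cands := [] }

theorem hD5 : LD.badChk D5 2 0 = true := by decide +kernel

theorem hl5 : ∀ j : Fin 7, D5.lp j = ([100, 34, 6, 0, 30, 602, 514] : List ℕ).getD j 0 := by decide +kernel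

/-- A leaf. -/
def D6 : LD :=
  { us := [[2, 3, 4, 1, 2, 3], [3, 4, 2, 3], [4, 3], [], [7, 5, 6, 3, 7, 2, 3], [7, 6, 3, 7, 4, 3], [6, 3, 7, 4, 3]],
    uc := [1, 2, 3, 4, 0, 1, 2, 3], tC := 3, tO := 5,
    MC := nat_lit 0x8000001000000604e001bc00007ce000cbbc03f802afc02bf07f80bf05f9fc7e3f7df7ffff,
    MO := nat_lit 0x1fffffffffffffffffffffffffffffffffffffffffffffffffffffffffffffffffffffffffffffffffffffffffffffffffff7fffffeffffff9fb1ffe43ffff831fff3443fc07fd503fd40f807f40fa060381c082080000,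
    cands := [([6, 3, 2, 1, 5, 0, 1, 2, 3], 1000), ([7, 5, 6, 1, 5, 3, 4, 0, 1, 2, 3], 2)] }

theorem hD6 : D6.chk = true := by decide +kernel

theorem hl6 : ∀ j : Fin 7, D6.lp j = ([100, 34, 6, 0, 56, 63, 35] : List ℕ).getD j 0 := by decide +kernel

/-- A leaf. -/
def D7 : LD :=
  { us := [[2, 3, 4, 1, 2, 3], [3, 4, 2, 3], [4, 3], [], [7, 5, 6, 3, 7, 2, 3], [7, 6, 3, 7, 4, 3], [6, 3, 2, 1, 5, 0, 1, 2, 3]],
    uc := [1, 2, 3, 4, 0, 1, 2, 3], tC := 3, tO := 5,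
    MC := nat_lit 0x82000000010001000013100000000e05000800004c800200816180002010ec000100c3c80102020806800234823a0c018010102037c0324870002000001f005054000001e818541108d168b450a28c063,
    MO := nat_lit 0x1ffffffffffff7dfffffffefffeffffeceffffffff1fafff7ffffb37ffdff7e9e7fffdfef13fffeff3c37fefdfdf7f97ffdcb7dc5f3fe7fefefdfc83fcdb78fffdfffffe0ffafabfffffe17e7abeef72e974baf5d73f9c,
    cands := [([6, 3, 7, 4, 3], 1000), ([7, 5, 6, 1, 5, 3, 4, 0, 1, 2, 3], 516)] }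

theorem hD7 : D7.chk = true := by decide +kernel

theorem hl7 : ∀ j : Fin 7, D7.lp j = ([100, 34, 6, 0, 56, 63, 301] : List ℕ).getD j 0 := by decide +kernel

/-- A leaf. -/
def D8 : LD :=
  { us := [[2, 3, 4, 1, 2, 3], [3, 4, 2, 3], [4, 3], [], [7, 5, 6, 3, 7, 2, 3], [7, 6, 3, 7, 4, 3], [7, 5, 6, 1, 5, 3, 4, 0, 1, 2, 3]],
    uc := [], tC := 0, tO := 0, MC := 0, MO := 0, cands := [] }

theorem hD8 : LD.badChk D8 2 0 = true := by decide +kernel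

theorem hl8 : ∀ j : Fin 7, D8.lp j = ([100, 34, 6, 0, 56, 63, 319] : List ℕ).getD j 0 := by decide +kernel

theorem hpat : ∀ k : Fin 7, ∀ j : Fin 7, j.val < k.val →
    (PP.pat k j = 1 ∧ adjB j k = true) ∨ (PP.pat k j = 0 ∧ adjB j k = false) := by decide +kernel

theorem m2 : ∀ t : Fin 7 → Gp, (∀ i, t i ∈ Tb) → Pat t →
    (∀ i, Commute (v1 t) (t i) ∧ Commute (v2 t) (t i) ∧ Commute (v3 t) (t i)) →
    ∃ u : Gp, Good Tb (fun i => u * t i * u⁻¹) := by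
  intro t ht hP hv
  obtain ⟨g, l, hl, hp⟩ := LD.exists_leaf PP hpat hC rfl hM rfl rfl t ht hP
  have hl' := hl
  simp only [PP, List.mem_cons, List.not_mem_nil, or_false] at hl'
  rcases hl' with rfl | rfl | rfl | rfl | rfl | rfl | rfl | rfl | rfl
  · exact LD.good_leaf D0 hD0 hl0 hp
  · exact (LD.bad_leaf D1 2 0 (by norm_num) hD1 hl1 hp (fun i => (hv i).1)).elim
  · exact LD.good_leaf D2 hD2 hl2 hp
  · exact LD.good_leaf D3 hD3 hl3 hp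
  · exact LD.good_leaf D4 hD4 hl4 hp
  · exact (LD.bad_leaf D5 2 0 (by norm_num) hD5 hl5 hp (fun i => (hv i).1)).elim
  · exact LD.good_leaf D6 hD6 hl6 hp
  · exact LD.good_leaf D7 hD7 hl7 hp
  · exact (LD.bad_leaf D8 2 0 (by norm_num) hD8 hl8 hp (fun i => (hv i).1)).elim

end Cfsg.Agent.TcChain36.Out.U0M22
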